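import Groth.Agent.L29.TrivBC.Univ

/-!
The comparison map of base change along a tor independent pushout is an isomorphism.
-/

set_option autoImplicit false
set_option backward.defeqAttrib.useBackward true
set_option backward.isDefEq.respectTransparency false
set_option backward.isDefEq.respectTransparency.types false

universe u

open CategoryTheory CategoryTheory.Limits CategoryTheory.Pretriangulated Opposite TensorProduct

attribute [local instance] HasDerivedCategory.standard

namespace Groth.L29.TrivBC

open Groth.L10.DTen Groth.L02.PC Groth.L10.RelPC L02.CAlg.TorV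

section Gen

theorem isIso_app_colimit {C D : Type*} [Category C] [Category D] {J : Type*} [Category J] {F G : C ⥤ D}
    [PreservesColimitsOfShape J F] [PreservesColimitsOfShape J G] (τ : F ⟶ G) {K : J ⥤ C} {c : Cocone K}
    (hc : IsColimit c) (h : ∀ j, IsIso (τ.app (K.obj j))) : IsIso (τ.app c.pt) := by
  haveI : IsIso (Functor.whiskerLeft K τ) := by
    haveI : ∀ j, IsIso ((Functor.whiskerLeft K τ).app j) := h
    exact NatIso.isIso_of_isIso_app _
  let hF := isColimitOfPreserves F hc
  let hG := isColimitOfPreserves G hc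
  have e : τ.app c.pt = (IsColimit.coconePointsIsoOfNatIso hF hG (asIso (Functor.whiskerLeft K τ))).hom :=
    hF.hom_ext fun j => by
      rw [IsColimit.comp_coconePointsIsoOfNatIso_hom]
      exact τ.naturality (c.ι.app j)
  rw [e]
  infer_instance

variable {A B : Type u} [CommRing A] [CommRing B]

/-- a natural transformation of triangulated functors keeping coproducts is invertible as soon as it is
invertible at the shifts of the unit -/
theorem isIso_of_gen {F G : Dual.D A ⥤ Dual.D B} [F.CommShift ℤ] [F.IsTriangulated] [G.CommShift ℤ]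
    [G.IsTriangulated] (hFc : ∀ ι : Type u, PreservesColimitsOfShape (Discrete ι) F)
    (hGc : ∀ ι : Type u, PreservesColimitsOfShape (Discrete ι) G) (τ : F ⟶ G)
    (hunit : ∀ n : ℤ, IsIso (τ.app ((_root_.DTen.unit A)⟦n⟧))) (X : Dual.D A) : IsIso (τ.app X) := by
  let P : Dual.D A → Prop := fun K => ∀ n : ℤ, IsIso (τ.app (K⟦n⟧))
  suffices hP : P X by
    haveI := hP 0
    exact isIso_app_of_iso τ ((shiftFunctorZero (Dual.D A) ℤ).app X)
  refine generation P (fun e h n => ?_) (fun m n => ?_) (fun T hT h1 h2 n => ?_) (fun {ι} K h n => ?_) X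
  · haveI := h n
    exact isIso_app_of_iso τ ((shiftFunctor (Dual.D A) n).mapIso e)
  · haveI := hunit (m + n)
    exact isIso_app_of_iso τ ((shiftFunctorAdd (Dual.D A) m n).app _)
  · let T' := (Triangle.shiftFunctor (Dual.D A) n).obj T.rotate
    have hT' : T' ∈ distTriang _ := Triangle.shift_distinguished T.rotate (rot_of_distTriang _ hT) n
    have h1' : P (T.obj₁⟦(1 : ℤ)⟧) := fun k => haveI := h1 (1 + k)
      isIso_app_of_iso τ ((shiftFunctorAdd (Dual.D A) 1 k).app T.obj₁)
    have e : ∀ (X : Dual.D A) (m : ℤ), P X → IsIso (τ.app ((X⟦n⟧)⟦m⟧)) := fun X m hX =>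
      haveI := hX (n + m)
      isIso_app_of_iso τ ((shiftFunctorAdd (Dual.D A) n m).app X)
    refine (isIso_iff_yoneda_map_bijective _).2 fun W => ?_
    let t := Functor.whiskerRight τ (preadditiveCoyoneda.obj (op W))
    have hb : ∀ Z : Dual.D A, IsIso (τ.app Z) → Function.Bijective (t.app Z).hom := fun Z hZ =>
      (isIso_iff_yoneda_map_bijective _).1 hZ W
    exact bijective_mid (F := fun Z => W ⟶ F.obj Z) (G := fun Z => W ⟶ G.obj Z)
      (fun f => ((F ⋙ preadditiveCoyoneda.obj (op W)).map f).hom)
      (fun f => ((G ⋙ preadditiveCoyoneda.obj (op W)).map f).hom) (fun Z => (t.app Z).hom)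
      (fun f a => (congrArg (fun k => k.hom a) (t.naturality f)).symm)
      (fun T hT => exact_hom_from (ExTri.of_triangle _ (F.map_distinguished T hT)) W)
      (fun T hT => exact_hom_from (ExTri.of_triangle _ (G.map_distinguished T hT)) W)
      T' hT' (hb _ (e _ (-1) h1')) (hb _ (h2 n)) (hb _ (h1' n)) (hb _ (e _ 1 h2))
  · haveI := preservesCoproducts_Q (B := A) ι
    haveI := hFc ι
    haveI := hGc ι
    let H := DerivedCategory.Q ⋙ shiftFunctor (Dual.D A) n
    let t : H ⋙ F ⟶ H ⋙ G := Functor.whiskerLeft H τ
    exact isIso_app_colimit t (colimit.isColimit (Discrete.functor K)) fun j => h j.as n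

end Gen

section Coprod

variable {A B : Type u} [CommRing A] [CommRing B] (φ : A →+* B)

/-- restriction keeps coproducts -/
theorem preservesCoproducts_restrictD (ι : Type u) :
    PreservesColimitsOfShape (Discrete ι) (DRing.restrictD φ) := by
  haveI := preservesCoproducts_Q (B := A) ι
  haveI := preservesCoproducts_Q (B := B) ι
  haveI : PreservesColimitsOfShape (Discrete ι) (DerivedCategory.Q ⋙ DRing.restrictD φ) :=
    preservesColimitsOfShape_of_natIso (_root_.DTen.resFactors φ).symm
  haveI : ∀ Y : ι → Dual.D B, PreservesColimit (Discrete.functor Y) (DRing.restrictD φ) := by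
    intro Y
    let K : ι → DRing.Cx B := fun i => DerivedCategory.Q.objPreimage (Y i)
    let iY : Discrete.functor K ⋙ DerivedCategory.Q ≅ Discrete.functor Y :=
      Discrete.natIso fun i => DerivedCategory.Q.objObjPreimageIso (Y i.as)
    haveI : PreservesColimit (Discrete.functor K ⋙ DerivedCategory.Q) (DRing.restrictD φ) :=
      preservesColimit_of_preserves_colimit_cocone
        (isColimitOfPreserves DerivedCategory.Q (colimit.isColimit (Discrete.functor K)))
        (isColimitOfPreserves (DerivedCategory.Q ⋙ DRing.restrictD φ)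
          (colimit.isColimit (Discrete.functor K)))
    exact preservesColimit_of_iso_diagram _ iY
  exact preservesColimitsOfShape_of_discrete _

end Coprod

variable {R A R' A' : Type u} [CommRing R] [CommRing A] [CommRing R'] [CommRing A']
  {φ : R →+* A} {ρ : R →+* R'} {α : A →+* A'} {φ' : R' →+* A'} (h : α.comp φ = φ'.comp ρ)

/-- the two restrictions of a complex -/
noncomputable def commCx (T : DRing.Cx A') :
    (_root_.DTen.resCx φ).obj ((_root_.DTen.resCx α).obj T) ⟶
      (_root_.DTen.resCx ρ).obj ((_root_.DTen.resCx φ').obj T) :=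
  (Functor.mapHomologicalComplexCompIso (TrivBC.resCommMod h) (ComplexShape.up ℤ) ≪≫
    (Functor.mapHomologicalComplexCompIso
      (Iso.refl (ModuleCat.restrictScalars.{u} φ' ⋙ ModuleCat.restrictScalars.{u} ρ))
      (ComplexShape.up ℤ)).symm).hom.app T

theorem resComm_app_Q (T : DRing.Cx A') :
    (TrivBC.resComm h).hom.app (DerivedCategory.Q.obj T) =
      (DRing.restrictD φ).map ((_root_.DTen.resFactors α).hom.app T) ≫
        (_root_.DTen.resFactors φ).hom.app ((_root_.DTen.resCx α).obj T) ≫
        DerivedCategory.Q.map (commCx h T) ≫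
        (_root_.DTen.resFactors ρ).inv.app ((_root_.DTen.resCx φ').obj T) ≫
        (DRing.restrictD ρ).map ((_root_.DTen.resFactors φ').inv.app T) := by
  simp [TrivBC.resComm, TrivBC.resCommCx, TrivBC.liftingRes₂, commCx, Localization.Lifting.iso,
    Category.assoc]

variable [DRing.HasLBaseChange ρ] [DRing.HasLBaseChange α]
  (adjρ : DRing.LBaseChange ρ ⊣ DRing.restrictD ρ) (adjα : DRing.LBaseChange α ⊣ DRing.restrictD α)

/-- the comparison map is invertible as soon as some universal arrow restricts to a universal arrow -/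
theorem isIso_cmp_of_univ {K : Dual.D A} {T : Dual.D A'} (v : K ⟶ (DRing.restrictD α).obj T)
    (hv : Univ α v) (hw : Univ ρ ((DRing.restrictD φ).map v ≫ (TrivBC.resComm h).hom.app T)) :
    IsIso (TrivBC.cmp adjρ adjα h K) := by
  haveI := (univ_iff α adjα v).1 hv
  set θ := (adjα.homEquiv K T).symm v with hθ
  have hvθ : v = adjα.unit.app K ≫ (DRing.restrictD α).map θ := by
    rw [hθ]
    exact ((adjα.homEquiv K T).apply_symm_apply v).symm.trans (adjα.homEquiv_unit _ _ _)
  rw [TrivBC.cmp, ← univ_iff ρ adjρ, ← univ_postcomp_iff ρ ((DRing.restrictD φ').map θ), Category.assoc]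
  have hn := (TrivBC.resComm h).hom.naturality θ
  dsimp at hn ⊢
  rw [← hn, ← Functor.map_comp_assoc, ← hvθ]
  exact hw

/-- the comparison map, naturally -/
noncomputable def cmpNat : DRing.restrictD φ ⋙ DRing.LBaseChange ρ ⟶ DRing.LBaseChange α ⋙ DRing.restrictD φ' where
  app K := TrivBC.cmp adjρ adjα h K
  naturality K L f := by
    have h1 := adjα.unit.naturality f
    have h2 := (TrivBC.resComm h).hom.naturality ((DRing.LBaseChange α).map f)
    dsimp [TrivBC.cmp] at h1 h2 ⊢
    rw [← Adjunction.homEquiv_naturality_left_symm, ← Adjunction.homEquiv_naturality_right_symm,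
      ← Functor.map_comp_assoc, h1, Functor.map_comp_assoc, h2, Category.assoc]

end Groth.L29.TrivBC
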