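import Groth.Agent.L10.DTen.RHomBC
import Groth.Agent.L10.DTen.Small
import Groth.Agent.L10.DTen.BaseAdj
import Groth.Agent.L10.DTen.Single
import Groth.Agent.L29.DCoh.Gen.Brown
import Groth.Agent.L29.TrivBC.Cmp
import Groth.Agent.L10.DerivedModGen
import Mathlib.CategoryTheory.Triangulated.Opposite.Functor
import Mathlib.CategoryTheory.Adjunction.PartialAdjoint
import Mathlib.CategoryTheory.Limits.Preserves.Opposites
import Mathlib.CategoryTheory.Preadditive.Yoneda.Limits

/-!
The existence binders of the derived tensor calculus hold.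
-/

set_option autoImplicit false
set_option backward.defeqAttrib.useBackward true
set_option backward.isDefEq.respectTransparency false
set_option backward.isDefEq.respectTransparency.types false

universe u

open CategoryTheory CategoryTheory.Limits CategoryTheory.Pretriangulated MonoidalCategory Opposite

attribute [local instance] HasDerivedCategory.standard

namespace Groth.L29.TrivBC

open Groth.L10.DTen Groth.L10.KFlat

variable {R A : Type u} [CommRing R] [CommRing A]

theorem hasLBase (φ : R →+* A) : _root_.DTen.HasLBase φ :=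
  ⟨(BaseAdj.adjB φ).isRightAdjoint⟩

theorem hasResTen (φ : R →+* A) : _root_.DTen.HasResTen φ := by
  refine Groth.L00.LeftDeriv.hasLeftDerivedFunctor (_root_.DTen.resTen₂ φ) (_root_.DTen.qis₂ A) (_root_.DTen.QQ A)
    ((Groth.L10.KFlat.R A).prod (Groth.L10.KFlat.R A)) ((r A).prod (r A))
    (fun X => ⟨(HomologicalComplex.mem_quasiIso_iff _).2 (quasiIso_r X.1),
      (HomologicalComplex.mem_quasiIso_iff _).2 (quasiIso_r X.2)⟩)
    (fun X Y f hf => ?_) (fun X => ?_)
  · haveI := inverted₂ A f hf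
    exact (NatIso.isIso_map_iff (Functor.isoWhiskerLeft
      ((Groth.L10.KFlat.R A).prod (Groth.L10.KFlat.R A) ⋙ _root_.DTen.tensorT A) (_root_.DTen.resFactors φ)) f).1
      (inferInstanceAs (IsIso ((DRing.restrictD φ).map (((Groth.L10.KFlat.R A).prod (Groth.L10.KFlat.R A) ⋙
        _root_.DTen.tensor₂ A).map f))))
  · haveI : IsIso ((_root_.DTen.tensor₂ A).map
        (((r A).prod (r A)).app (((Groth.L10.KFlat.R A).prod (Groth.L10.KFlat.R A)).obj X))) :=
      isIso_tensor₂_map A ((r A).app ((Groth.L10.KFlat.R A).obj X.1)) ((r A).app ((Groth.L10.KFlat.R A).obj X.2))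
      (isKFlat_R _) (Or.inl (isKFlat_R _))
    exact (NatIso.isIso_map_iff (Functor.isoWhiskerLeft (_root_.DTen.tensorT A) (_root_.DTen.resFactors φ)) _).1
      (inferInstanceAs (IsIso ((DRing.restrictD φ).map ((_root_.DTen.tensor₂ A).map
        (((r A).prod (r A)).app (((Groth.L10.KFlat.R A).prod (Groth.L10.KFlat.R A)).obj X))))))

theorem isIso_εRes (φ : R →+* A) [_root_.DTen.HasResTen φ] (K L : DRing.Cx A)
    (h : DRing.IsKFlat A K ∨ DRing.IsKFlat A L) : IsIso ((_root_.DTen.εRes φ).app (K, L)) := by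
  have ht : ∀ {K' K L' L : DRing.Cx A} (f : K' ⟶ K) (g : L' ⟶ L) [QuasiIso f] [QuasiIso g],
      DRing.IsKFlat A L' → (DRing.IsKFlat A L ∨ DRing.IsKFlat A K) →
      IsIso ((_root_.DTen.resTen₂ φ).map (Prod.mkHom f g)) := fun {K' K L' L} f g _ _ hL' hh => by
    haveI := isIso_tensor₂_map A f g hL' hh
    exact (NatIso.isIso_map_iff (Functor.isoWhiskerLeft (_root_.DTen.tensorT A) (_root_.DTen.resFactors φ)) _).1
      (inferInstanceAs (IsIso ((DRing.restrictD φ).map ((_root_.DTen.tensor₂ A).map (Prod.mkHom f g)))))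
  haveI : (_root_.DTen.ResTen φ).IsRightKanExtension (_root_.DTen.εRes φ) :=
    Functor.IsLeftDerivedFunctor.isRightKanExtension (_root_.DTen.ResTen φ) (_root_.DTen.εRes φ) (_root_.DTen.qis₂ A)
  refine Groth.L10.DTen.isIso_counit (_root_.DTen.resTen₂ φ) (_root_.DTen.qis₂ A) (_root_.DTen.QQ A)
    ((Groth.L10.KFlat.R A).prod (Groth.L10.KFlat.R A)) ((r A).prod (r A))
    (fun X => ⟨(HomologicalComplex.mem_quasiIso_iff _).2 (quasiIso_r X.1),
      (HomologicalComplex.mem_quasiIso_iff _).2 (quasiIso_r X.2)⟩)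
    (fun X Y f hf => ?_) (fun X => ?_) (_root_.DTen.ResTen φ) (_root_.DTen.εRes φ) (K, L) ?_
  · haveI := inverted₂ A f hf
    exact (NatIso.isIso_map_iff (Functor.isoWhiskerLeft
      ((Groth.L10.KFlat.R A).prod (Groth.L10.KFlat.R A) ⋙ _root_.DTen.tensorT A) (_root_.DTen.resFactors φ)) f).1
      (inferInstanceAs (IsIso ((DRing.restrictD φ).map (((Groth.L10.KFlat.R A).prod (Groth.L10.KFlat.R A) ⋙
        _root_.DTen.tensor₂ A).map f))))
  · exact ht ((r A).app ((Groth.L10.KFlat.R A).obj X.1)) ((r A).app ((Groth.L10.KFlat.R A).obj X.2))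
      (isKFlat_R _) (Or.inl (isKFlat_R _))
  · exact ht ((r A).app K) ((r A).app L) (isKFlat_R _) h.symm

theorem resLegIso (φ : R →+* A) [_root_.DTen.HasLTen A] [_root_.DTen.HasResTen φ] : _root_.DTen.ResLegIso φ := by
  refine ⟨?_⟩
  suffices h : ∀ X, IsIso ((_root_.DTen.resLegB φ).app X) from NatIso.isIso_of_isIso_app _
  intro X
  obtain ⟨K, hK, ⟨a⟩⟩ := exists_rep X.1
  obtain ⟨L, -, ⟨b⟩⟩ := exists_rep X.2
  haveI := isIso_εRes φ K L (Or.inl hK)
  haveI := Groth.L10.DTen.isIso_ε A K L (Or.inl hK)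
  haveI : IsIso ((_root_.DTen.resLegB φ).app ((_root_.DTen.QQ A).obj (K, L)) ≫ (_root_.DTen.εRes φ).app (K, L)) := by
    rw [_root_.DTen.resLegB_fac]
    exact inferInstanceAs (IsIso ((DRing.restrictD φ).map ((_root_.DTen.ε A).app (K, L)) ≫
      (_root_.DTen.resFactors φ).hom.app ((_root_.DTen.tensorT A).obj (K, L))))
  haveI : IsIso ((_root_.DTen.resLegB φ).app ((_root_.DTen.QQ A).obj (K, L))) :=
    IsIso.of_isIso_comp_right _ ((_root_.DTen.εRes φ).app (K, L))
  exact @isIso_app_of_iso _ _ _ _ _ _ (_root_.DTen.resLegB φ) ((_root_.DTen.QQ A).obj (K, L)) _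
    (Iso.prod a b : ((_root_.DTen.QQ A).obj (K, L)) ≅ (X.1, X.2)) this

theorem hasCoproducts_D (ι : Type u) : HasCoproductsOfShape ι (Dual.D R) := hasCoproducts ι

theorem locallySmall_D : LocallySmall.{u} (Dual.D R) :=
  ⟨fun _ _ => small_of_injective (f := (Groth.L10.KInjDerived.equiv (A := ModuleCat.{u} R)).inverse.map)
    (Groth.L10.KInjDerived.equiv (A := ModuleCat.{u} R)).inverse.map_injective⟩

theorem hasRHom [_root_.DTen.HasLTen R] : _root_.DTen.HasRHom R := by
  classical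
  haveI := hasLTen₃ R
  refine ⟨fun L => ?_⟩
  let F := _root_.DTen.tensorRightD R L
  haveI : HasCoproducts.{u} (Dual.D R) := fun ι => hasCoproducts_D ι
  haveI : HasColimitsOfShape (Discrete ℕ) (Dual.D R) :=
    hasColimitsOfShape_of_equivalence (Discrete.equivalence (Equiv.ulift.{u} : ULift.{u} ℕ ≃ ℕ))
  haveI := locallySmall_D (R := R)
  refine Functor.isLeftAdjoint_of_rightAdjointObjIsDefined_eq_top (funext fun M => ?_)
  simp only [Pi.top_apply, Prop.top_eq_true, eq_iff_iff, iff_true]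
  change (F.op ⋙ yoneda.obj M).IsRepresentable
  haveI : ∀ κ : Type u, PreservesLimitsOfShape (Discrete κ) F.op := fun κ =>
    haveI := preservesCoproducts_tensor (B := R) L κ
    haveI : PreservesColimitsOfShape (Discrete κ)ᵒᵖ F :=
      preservesColimitsOfShape_of_equiv (Discrete.opposite κ).symm F
    preservesLimitsOfShape_op _ F
  haveI : ∀ X, Small.{u} ((F.op ⋙ preadditiveYoneda.obj M).obj X) := fun X =>
    inferInstanceAs (Small.{u} (F.obj X.unop ⟶ M))
  haveI : ∀ κ : Type u, PreservesLimitsOfShape (Discrete κ) (preadditiveYoneda.obj M) := fun κ =>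
    haveI : PreservesLimitsOfSize.{u, u} (preadditiveYoneda.obj M) :=
      preservesLimitsOfSize_shrink.{u, u + 1, u, u + 1} _
    inferInstance
  haveI : ∀ κ : Type u, PreservesLimitsOfShape (Discrete κ) (F.op ⋙ preadditiveYoneda.obj M) := fun κ =>
    comp_preservesLimitsOfShape _ _
  haveI : (F.op ⋙ preadditiveYoneda.obj M).IsHomological := ⟨fun T hT =>
    (ShortComplex.ab_exact_iff_function_exact _).2
      (exact_hom_to ((triF_right L) _ ((mem_distTriang_op_iff _).1 hT)) M)⟩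
  let E : ULift.{u} ℤ → Dual.D R := fun m => (_root_.DTen.unit R)⟦m.down⟧
  refine Groth.L29.Brown.isRepresentable (F.op ⋙ preadditiveYoneda.obj M) E (fun K hK => ?_) (fun K m α => ?_)
  · by_contra h
    push Not at h
    refine hK ?_
    obtain ⟨Z0, hZ0⟩ := HasZeroObject.zero (C := Dual.D R)
    haveI : IsIso (0 : K ⟶ Z0) := isIso_of_units _ fun n =>
      ⟨fun a b _ => (h ⟨n⟩ a).trans (h ⟨n⟩ b).symm, fun k => ⟨0, hZ0.eq_of_tgt _ _⟩⟩
    exact IsZero.of_iso hZ0 (asIso (0 : K ⟶ Z0))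
  · let Y : ULift.{u} ℕ → Dual.D R := fun n => K n.down
    let θ : (∐ K) ⟶ ∐ Y := Sigma.desc fun n => Sigma.ι Y ⟨n⟩
    let θ' : (∐ Y) ⟶ ∐ K := Sigma.desc fun n => Sigma.ι K n.down
    have hθ : θ ≫ θ' = 𝟙 _ := Sigma.hom_ext _ _ fun n => by simp [θ, θ']
    obtain ⟨s, hs⟩ := small_of_perfect (isPerfect_shift_unit (B := R) m.down) _ Y (α ≫ θ)
    refine ⟨fun _ => m, fun n => (α ≫ θ) ≫ pr Y ⟨n⟩,
      ∑ n ∈ s, Sigma.ι (fun _ : ℕ => E m) n.down, ?_⟩
    calc α = (α ≫ θ) ≫ θ' := by rw [Category.assoc, hθ, Category.comp_id]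
      _ = _ := by
        conv_lhs => rw [← hs s (Finset.Subset.refl s), prj, Preadditive.comp_sum, Preadditive.sum_comp]
        rw [Preadditive.sum_comp]
        refine Finset.sum_congr rfl fun n _ => ?_
        simp [θ']

end Groth.L29.TrivBC
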