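import Groth.Agent.L29.TrivBC.Cmp

/-!
The comparison map of base change along a tor independent pushout is an isomorphism.
-/

set_option autoImplicit false
set_option backward.defeqAttrib.useBackward true
set_option backward.isDefEq.respectTransparency false
set_option backward.isDefEq.respectTransparency.types false

universe u

open CategoryTheory CategoryTheory.Limits CategoryTheory.Pretriangulated Opposite TensorProduct

attribute [local instance] HasDerivedCategory.standard

namespace Groth.L29.TrivBC

open Groth.L10.DTen Groth.L02.PC Groth.L10.RelPC L02.CAlg.TorV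

variable (R A R' A' : Type u) [CommRing R] [CommRing A] [CommRing R'] [CommRing A']
  [Algebra R A] [Algebra R R'] [Algebra A A'] [Algebra R' A'] [Algebra R A'] [IsScalarTower R A A']
  [IsScalarTower R R' A'] [Algebra.IsPushout R A R' A']

theorem kflat_of_free {R : Type u} [CommRing R] {P : DRing.Cx R} {b : ℤ} (hb : DRing.VanishesAbove P b)
    (hP : ∀ i, Module.Free R (P.X i)) : DRing.IsKFlat R P :=
  Groth.L10.KFlat.of_bounded P b hb fun i => haveI := hP i; inferInstance

/-- base change keeps quasi-isomorphisms from flat resolutions of free modules over a tor independent algebra -/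
theorem quasiIso_ext_resolution (htor : ∀ p : ℕ, 1 ≤ p → Subsingleton (DRing.Tor R p A R'))
    {N : DRing.Cx A} {F : DRing.Cx R} {b : ℤ} (hNb : DRing.VanishesAbove N b) (hNf : ∀ i, Module.Free A (N.X i))
    (hFb : DRing.VanishesAbove F b) (hFf : ∀ i, Module.Free R (F.X i))
    (p : F ⟶ (_root_.DTen.resCx (algebraMap R A)).obj N) [QuasiIso p] :
    QuasiIso ((_root_.DTen.extCx (algebraMap R R')).map p) := by
  haveI : Algebra.IsPushout R R' R R' := by
    refine ⟨?_⟩
    exact IsBaseChange.linearMap R R'
  have hv : ∀ k, Van R A R' k := fun k => (isZero_tor_iff A R' k).1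
    (haveI := htor (k + 1) (Nat.succ_pos k)
     ModuleCat.isZero_of_subsingleton _)
  refine Groth.L00.Cell.quasiIso_of_acyclic_cone _ fun i => ?_
  refine IsZero.of_iso (isZero_bc_homology (R := R) (A := A) (R' := R') (P := R) (P' := R')
    (CochainComplex.mappingCone p) b (fun j hj => ?_) (fun j => Groth.L00.ConeTransfer.acyclic_cone p j) (fun j => ?_) hv i)
    ((HomologicalComplex.homologyFunctor _ _ i).mapIso
        (CochainComplex.mappingCone.mapHomologicalComplexIso p (ModuleCat.extendScalars (algebraMap R R')))).symm
  · rw [CochainComplex.mappingCone.isZero_X_iff]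
    exact ⟨hFb _ (by omega), (ModuleCat.restrictScalars.{u} (algebraMap R A)).map_isZero (hNb j (by omega))⟩
  · letI := Module.compHom ((CochainComplex.mappingCone p).X j) (algebraMap R R)
    haveI := hFf (j + 1)
    letI := Module.compHom (N.X j) (algebraMap R A)
    haveI : IsScalarTower R A (N.X j) := IsScalarTower.of_algebraMap_smul fun _ _ => rfl
    haveI := hNf j
    let G := (_root_.DTen.resCx (algebraMap R A)).obj N
    let eG : (j : ℤ) → (letI := Module.compHom (N.X j) (algebraMap R A); N.X j ≃ₗ[R] G.X j) := fun j =>
      letI := Module.compHom (N.X j) (algebraMap R A)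
      { AddEquiv.refl (N.X j) with map_smul' := fun r x => rfl }
    have hN : TG R A (N.X j) :=
      (TG.self.finsupp _).congr ((Module.Free.chooseBasis A (N.X j)).repr.symm.restrictScalars R)
    refine (TG.prod (TG.of_flat (X := F.X (j + 1))) (hN.congr (eG j))).congr
      ({ (coneEquiv p j (j + 1) rfl).symm.toAddEquiv with
        map_smul' := fun r x => (coneEquiv p j (j + 1) rfl).symm.map_smul r x } :
        (F.X (j + 1) × G.X j) ≃ₗ[R] (CochainComplex.mappingCone p).X j)

/-- the map of complexes underlying the comparison -/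
noncomputable def natCx (h : (algebraMap A A').comp (algebraMap R A) = (algebraMap R' A').comp (algebraMap R R'))
    (N : DRing.Cx A) :
    (_root_.DTen.resCx (algebraMap R A)).obj N ⟶ (_root_.DTen.resCx (algebraMap R R')).obj
      ((_root_.DTen.resCx (algebraMap R' A')).obj ((_root_.DTen.extCx (algebraMap A A')).obj N)) :=
  (_root_.DTen.resCx (algebraMap R A)).map ((_root_.DTen.unitCx (algebraMap A A')).app N) ≫ commCx h _

open Groth.L29.FlatBC in
theorem isIso_natCx_transpose
    (h : (algebraMap A A').comp (algebraMap R A) = (algebraMap R' A').comp (algebraMap R R')) (N : DRing.Cx A) :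
    IsIso ((_root_.DTen.extCx (algebraMap R R')).map (natCx R A R' A' h N) ≫
      (counitCx (algebraMap R R')).app _) := by
  haveI : Algebra.IsPushout R R' A A' := Algebra.IsPushout.symm inferInstance
  suffices hc : ∀ i, ((_root_.DTen.extCx (algebraMap R R')).map (natCx R A R' A' h N) ≫
      (counitCx (algebraMap R R')).app _).f i = (extResApp R R' A A' (N.X i)).hom by
    haveI : ∀ i, IsIso (((_root_.DTen.extCx (algebraMap R R')).map (natCx R A R' A' h N) ≫
      (counitCx (algebraMap R R')).app _).f i) := fun i => by rw [hc i]; infer_instance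
    exact HomologicalComplex.Hom.isIso_of_components _
  intro i
  refine ModuleCat.hom_ext (LinearMap.ext fun x => ?_)
  induction x using TensorProduct.induction_on with
  | zero =>
    erw [map_zero]
  | add x y hx hy => erw [map_add, map_add, hx, hy]
  | tmul r m =>
    letI : Module R (N.X i) := Module.compHom (N.X i) (algebraMap R A)
    haveI : IsScalarTower R A (N.X i) := IsScalarTower.of_algebraMap_smul fun _ _ => rfl
    show _ = (extEquiv A A' (N.X i)).symm
      ((Algebra.IsPushout.cancelBaseChange R R' A A' (N.X i)).symm ((show R' from r) ⊗ₜ[R] (show N.X i from m)))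
    rw [Algebra.IsPushout.cancelBaseChange_symm_tmul]
    refine (extEquiv A A' (N.X i)).injective ?_
    rw [LinearEquiv.apply_symm_apply]
    show (algebraMap R' A' (show R' from r) * 1) ⊗ₜ[A] (show N.X i from m) = _
    rw [mul_one]

theorem isIso_cmp (htor : ∀ p : ℕ, 1 ≤ p → Subsingleton (DRing.Tor R p A R'))
    [DRing.HasLBaseChange (algebraMap R R')] [DRing.HasLBaseChange (algebraMap A A')]
    (adjρ : DRing.LBaseChange (algebraMap R R') ⊣ DRing.restrictD (algebraMap R R'))
    (adjα : DRing.LBaseChange (algebraMap A A') ⊣ DRing.restrictD (algebraMap A A'))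
    (h : (algebraMap A A').comp (algebraMap R A) = (algebraMap R' A').comp (algebraMap R R'))
    (K : Dual.D A) : IsIso (TrivBC.cmp adjρ adjα h K) := by
  letI := adjρ.leftAdjointCommShift ℤ
  haveI := adjρ.commShift_of_rightAdjoint ℤ
  haveI : (DRing.LBaseChange (algebraMap R R')).IsTriangulated := adjρ.isTriangulated_leftAdjoint
  letI := adjα.leftAdjointCommShift ℤ
  haveI := adjα.commShift_of_rightAdjoint ℤ
  haveI : (DRing.LBaseChange (algebraMap A A')).IsTriangulated := adjα.isTriangulated_leftAdjoint
  haveI := adjρ.leftAdjoint_preservesColimits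
  haveI := adjα.leftAdjoint_preservesColimits
  refine isIso_of_gen (fun ι => ?_) (fun ι => ?_) (cmpNat h adjρ adjα) (fun n => ?_) K
  · haveI := preservesCoproducts_restrictD (algebraMap R A) ι
    infer_instance
  · haveI := preservesCoproducts_restrictD (algebraMap R' A') ι
    infer_instance
  · obtain ⟨N, hNb, hNf, hNk, ⟨e⟩⟩ := exists_free_rep (K := (_root_.DTen.unit A)⟦n⟧) (n := -n) (by
      haveI : (((_root_.DTen.unit A)⟦n⟧ : Dual.D A)).IsLE (-n) := by
        haveI : (_root_.DTen.unit A).IsLE 0 :=
          DerivedCategory.TStructure.t.isLE_of_iso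
            ((DerivedCategory.singleFunctorIsoCompQ (ModuleCat.{u} A) 0).app (ModuleCat.of A A)) 0
        exact DerivedCategory.TStructure.t.isLE_shift _ 0 n (-n) (by omega)
      exact (DerivedCategory.isLE_iff _ _).1 inferInstance)
    refine @isIso_app_of_iso _ _ _ _ _ _ (cmpNat h adjρ adjα) _ _ e ?_
    let φ := algebraMap R A; let ρ := algebraMap R R'; let α := algebraMap A A'; let φ' := algebraMap R' A'
    let Y := (_root_.DTen.extCx α).obj N
    refine isIso_cmp_of_univ h adjρ adjα
      (DerivedCategory.Q.map ((_root_.DTen.unitCx α).app N) ≫ (_root_.DTen.resFactors α).inv.app Y) ?_ ?_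
    · refine univ_Q α Y (𝟙 N) (kflat_of_free hNb hNf) _ ?_
      rw [Category.id_comp]
      erw [triangle₁]
      exact inferInstanceAs (QuasiIso (𝟙 Y))
    · obtain ⟨F, p, hFb, hFf, hp⟩ := exists_free_resolution ((_root_.DTen.resCx φ).obj N) (-n)
        (fun j hj => (ModuleCat.restrictScalars.{u} φ).map_isZero (hNb j hj))
      have hu : Univ ρ (DerivedCategory.Q.map (natCx R A R' A' h N) ≫
          (_root_.DTen.resFactors ρ).inv.app ((_root_.DTen.resCx φ').obj Y)) := by
        refine univ_Q ρ _ p (kflat_of_free hFb hFf) _ ?_
        haveI := quasiIso_ext_resolution R A R' htor hNb hNf hFb hFf p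
        haveI := isIso_natCx_transpose R A R' A' h N
        rw [Functor.map_comp, Category.assoc]
        infer_instance
      rw [← univ_precomp_iff ρ ((_root_.DTen.resFactors φ).inv.app N)]
      rw [← univ_postcomp_iff ρ ((_root_.DTen.resFactors φ').inv.app Y)] at hu
      refine Eq.mp (congrArg (Univ ρ) ?_) hu
      have hn := (_root_.DTen.resFactors φ).inv.naturality ((_root_.DTen.unitCx α).app N)
      dsimp at hn ⊢
      simp only [φ, ρ, α, φ', Y] at hn ⊢
      rw [resComm_app_Q, ← Functor.map_comp_assoc]
      simp only [Category.assoc, Iso.inv_hom_id_app]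
      erw [Category.comp_id, ← reassoc_of% hn, Iso.inv_hom_id_app_assoc]
      rw [natCx, Functor.map_comp]
      simp only [Category.assoc]

end Groth.L29.TrivBC
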