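import Groth.Agent.L29.TrivBC.Main
import Groth.Agent.L29.TrivBC.Free
import Groth.Agent.L29.TrivBC.Binders
import Groth.Agent.L10.DTen.BCPseudoCoh

/-!
The base change map of trivial duality along a tor independent pushout.
-/

set_option autoImplicit false
set_option backward.defeqAttrib.useBackward true
set_option backward.isDefEq.respectTransparency false
set_option backward.isDefEq.respectTransparency.types false

universe u

open CategoryTheory CategoryTheory.Limits MonoidalCategory

attribute [local instance] HasDerivedCategory.standard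

namespace Groth.L29.TrivBC

open Groth.L10.DTen Groth.L10.KFlat

theorem nonempty_res_unit_iso (R A : Type u) [CommRing R] [CommRing A] [Algebra R A] :
    Nonempty (Dual.inD R A ≅ (DRing.restrictD (algebraMap R A)).obj (_root_.DTen.unit A)) := by
  refine ⟨(DerivedCategory.singleFunctorIsoCompQ (ModuleCat.{u} R) 0).app _ ≪≫
    DerivedCategory.Q.mapIso ?_ ≪≫ ((_root_.DTen.resFactors (algebraMap R A)).app _).symm⟩
  let m : (ModuleCat.of R A) ≅ (ModuleCat.restrictScalars (algebraMap R A)).obj (ModuleCat.of A A) :=
    @LinearEquiv.toModuleIso R _ _ _ _ _ (ModuleCat.of R A).isModule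
      ((ModuleCat.restrictScalars (algebraMap R A)).obj (ModuleCat.of A A)).isModule
      { toFun := fun a => a
        invFun := fun a => a
        map_add' := fun _ _ => rfl
        map_smul' := fun r a => Algebra.smul_def r (a : A)
        left_inv := fun _ => rfl
        right_inv := fun _ => rfl }
  exact (HomologicalComplex.single _ _ 0).mapIso m ≪≫
    ((HomologicalComplex.singleMapHomologicalComplex (ModuleCat.restrictScalars (algebraMap R A))
      (ComplexShape.up ℤ) 0).app (ModuleCat.of A A)).symm

theorem isPseudoCoherent_res_unit (R A : Type u) [CommRing R] [CommRing A] [Algebra R A]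
    (hpc : DRing.IsPseudoCoherentModule' R A) :
    DRing.IsPseudoCoherent' R ((DRing.restrictD (algebraMap R A)).obj (_root_.DTen.unit A)) := by
  obtain ⟨E, b, hv, hf, ⟨e⟩⟩ := hpc
  exact ⟨E, b, hv, hf, ⟨e ≪≫ (nonempty_res_unit_iso R A).some⟩⟩

variable (R A R' A' : Type u) [CommRing R] [CommRing A] [CommRing R'] [CommRing A']
  [Algebra R A] [Algebra R R'] [Algebra A A'] [Algebra R' A'] [Algebra R A'] [IsScalarTower R A A']
  [IsScalarTower R R' A'] [Algebra.IsPushout R A R' A']

/-- the base change map of trivial duality is invertible when that of `RHom` is -/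
theorem isIso_bcMap_iff_bcRHom (htor : ∀ p : ℕ, 1 ≤ p → Subsingleton (DRing.Tor R p A R'))
    [DRing.HasLBaseChange (algebraMap R R')] [DRing.HasLBaseChange (algebraMap A A')]
    (adjρ : DRing.LBaseChange (algebraMap R R') ⊣ DRing.restrictD (algebraMap R R'))
    (adjα : DRing.LBaseChange (algebraMap A A') ⊣ DRing.restrictD (algebraMap A A'))
    (h : (algebraMap A A').comp (algebraMap R A) = (algebraMap R' A').comp (algebraMap R R'))
    {Rφ : Dual.D R ⥤ Dual.D A} (adj : DRing.restrictD (algebraMap R A) ⊣ Rφ)
    {Rφ' : Dual.D R' ⥤ Dual.D A'} (adj' : DRing.restrictD (algebraMap R' A') ⊣ Rφ')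
    (K : Dual.D R) (hc : IsIso (TrivBC.cmp adjρ adjα h (Rφ.obj K)))
    [_root_.DTen.HasLTen R] [_root_.DTen.HasLTen R'] [_root_.DTen.HasRHom R] [_root_.DTen.HasRHom R']
    [_root_.DTen.HasLBase (algebraMap R R')] [_root_.DTen.HasResTen (algebraMap R R')]
    [_root_.DTen.ResLegIso (algebraMap R R')]
    [IsIso (_root_.DTen.rhomBC (algebraMap R R') ((DRing.restrictD (algebraMap R A)).obj (_root_.DTen.unit A))
      ((_root_.DTen.LBase (algebraMap R R')).obj K))] :
    IsIso (TrivBC.bcMap adjρ adjα h adj adj' K hc) ↔
      IsIso (_root_.DTen.bcRHom (algebraMap R R') ((DRing.restrictD (algebraMap R A)).obj (_root_.DTen.unit A)) K) := by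
  haveI := hasLTen (A := A)
  haveI := hasLTen (A := A')
  haveI := hasResTen (algebraMap R A)
  haveI := resLegIso (algebraMap R A)
  haveI := hasResTen (algebraMap A A')
  haveI := resLegIso (algebraMap A A')
  haveI := hasResTen (algebraMap R' A')
  haveI := resLegIso (algebraMap R' A')
  haveI := hasLBase (algebraMap R A)
  haveI := hasLBase (algebraMap R' A')
  exact isIso_bcMap_iff h adj adj' adjρ adjα K hc (isIso_cmp R A R' A' htor adjρ adjα h _)

end Groth.L29.TrivBC
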