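import Groth.Agent.L29.TrivBC.Cx
import Groth.Agent.L10.DTen.RHomBC
import Groth.Agent.L10.DTen.Proj

/-!
Coherence of the derived lax monoidal comparison of restriction of scalars.
-/

set_option autoImplicit false
set_option backward.defeqAttrib.useBackward true
set_option backward.isDefEq.respectTransparency false
set_option backward.isDefEq.respectTransparency.types false

universe u

open CategoryTheory CategoryTheory.Limits MonoidalCategory

attribute [local instance] HasDerivedCategory.standard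

namespace Groth.L29.TrivBC

open Groth.L10.DTen Groth.L10.KFlat

section m2

variable {R : Type u} [CommRing R] [_root_.DTen.HasLTen R]

/-- the derived tensor product of two maps -/
noncomputable abbrev m2 {X X' Y Y' : Dual.D R} (f : X ⟶ X') (g : Y ⟶ Y') :
    (_root_.DTen.LTen₂ R).obj (X, Y) ⟶ (_root_.DTen.LTen₂ R).obj (X', Y') :=
  (_root_.DTen.LTen₂ R).map (Prod.mkHom f g)

@[reassoc]
theorem m2_comp {X X' X'' Y Y' Y'' : Dual.D R} (f : X ⟶ X') (f' : X' ⟶ X'') (g : Y ⟶ Y') (g' : Y' ⟶ Y'') :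
    m2 f g ≫ m2 f' g' = m2 (f ≫ f') (g ≫ g') :=
  ((_root_.DTen.LTen₂ R).map_comp _ _).symm

theorem m2_id (X Y : Dual.D R) : m2 (𝟙 X) (𝟙 Y) = 𝟙 _ := (_root_.DTen.LTen₂ R).map_id (X, Y)

@[reassoc]
theorem ε_natural {K K' L L' : DRing.Cx R} (f : K ⟶ K') (g : L ⟶ L') :
    m2 (DerivedCategory.Q.map f) (DerivedCategory.Q.map g) ≫ (_root_.DTen.ε R).app (K', L') =
      (_root_.DTen.ε R).app (K, L) ≫ DerivedCategory.Q.map (f ⊗ₘ g) := by
  rw [MonoidalCategory.tensorHom_def]
  exact (_root_.DTen.ε R).naturality (X := (K, L)) (Y := (K', L')) (Prod.mkHom f g)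

theorem unitR_natural {X Y : Dual.D R} (f : X ⟶ Y) :
    m2 f (𝟙 (_root_.DTen.unit R)) ≫ (_root_.DTen.unitR R).app Y = (_root_.DTen.unitR R).app X ≫ f :=
  (_root_.DTen.unitR R).naturality f

theorem unitL_natural {X Y : Dual.D R} (f : X ⟶ Y) :
    m2 (𝟙 (_root_.DTen.unit R)) f ≫ (_root_.DTen.unitL R).app Y = (_root_.DTen.unitL R).app X ≫ f :=
  (_root_.DTen.unitL R).naturality f

end m2

section Act

variable {R A : Type u} [CommRing R] [CommRing A] (φ : R →+* A)

/-- the termwise identification -/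
noncomputable abbrev fac (K : DRing.Cx A) :
    (DRing.restrictD φ).obj (DerivedCategory.Q.obj K) ⟶ DerivedCategory.Q.obj ((_root_.DTen.resCx φ).obj K) :=
  (_root_.DTen.resFactors φ).hom.app K

/-- the unit of `A` as a map -/
noncomputable def oneD : _root_.DTen.unit R ⟶ (DRing.restrictD φ).obj (_root_.DTen.unit A) :=
  DerivedCategory.Q.map (oneCx φ) ≫ (_root_.DTen.resFactors φ).inv.app _

@[reassoc]
theorem oneD_fac : oneD φ ≫ fac φ (𝟙_ (DRing.Cx A)) = DerivedCategory.Q.map (oneCx φ) := by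
  rw [oneD, Category.assoc, Iso.inv_hom_id_app]
  exact Category.comp_id _

variable [_root_.DTen.HasLTen R] [_root_.DTen.HasLTen A] [_root_.DTen.HasResTen φ] [_root_.DTen.ResLegIso φ]

@[reassoc]
theorem resPF_natural {X X' Y Y' : Dual.D A} (f : X ⟶ X') (g : Y ⟶ Y') :
    m2 ((DRing.restrictD φ).map f) ((DRing.restrictD φ).map g) ≫ (_root_.DTen.resPF φ).app (X', Y') =
      (_root_.DTen.resPF φ).app (X, Y) ≫ (DRing.restrictD φ).map (m2 f g) :=
  (_root_.DTen.resPF φ).naturality (X := (X, Y)) (Y := (X', Y')) (Prod.mkHom f g)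

theorem resPF_Q (K L : DRing.Cx A) :
    (_root_.DTen.resPF φ).app (DerivedCategory.Q.obj K, DerivedCategory.Q.obj L) ≫
        (DRing.restrictD φ).map ((_root_.DTen.ε A).app (K, L)) ≫ fac φ (K ⊗ L) =
      m2 (fac φ K) (fac φ L) ≫ (_root_.DTen.ε R).app ((_root_.DTen.resCx φ).obj K, (_root_.DTen.resCx φ).obj L) ≫
        DerivedCategory.Q.map (_root_.DTen.resTenCx φ K L) :=
  _root_.DTen.resPF_fac φ (K, L)

/-- the action of `A` on the right -/
noncomputable def act (X : Dual.D A) :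
    (_root_.DTen.LTen₂ R).obj ((DRing.restrictD φ).obj X, (DRing.restrictD φ).obj (_root_.DTen.unit A)) ⟶
      (DRing.restrictD φ).obj X :=
  (_root_.DTen.resPF φ).app (X, _root_.DTen.unit A) ≫ (DRing.restrictD φ).map ((_root_.DTen.unitR A).app X)

/-- the action of `A` on the left -/
noncomputable def actL (X : Dual.D A) :
    (_root_.DTen.LTen₂ R).obj ((DRing.restrictD φ).obj (_root_.DTen.unit A), (DRing.restrictD φ).obj X) ⟶
      (DRing.restrictD φ).obj X :=
  (_root_.DTen.resPF φ).app (_root_.DTen.unit A, X) ≫ (DRing.restrictD φ).map ((_root_.DTen.unitL A).app X)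

@[reassoc]
theorem act_natural {X Y : Dual.D A} (f : X ⟶ Y) :
    m2 ((DRing.restrictD φ).map f) (𝟙 _) ≫ act φ Y = act φ X ≫ (DRing.restrictD φ).map f := by
  rw [act, act, Category.assoc, ← CategoryTheory.Functor.map_id (DRing.restrictD φ), resPF_natural_assoc φ f (𝟙 _),
    ← Functor.map_comp, ← Functor.map_comp, unitR_natural]

@[reassoc]
theorem actL_natural {X Y : Dual.D A} (f : X ⟶ Y) :
    m2 (𝟙 _) ((DRing.restrictD φ).map f) ≫ actL φ Y = actL φ X ≫ (DRing.restrictD φ).map f := by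
  rw [actL, actL, Category.assoc, ← CategoryTheory.Functor.map_id (DRing.restrictD φ), resPF_natural_assoc φ (𝟙 _) f,
    ← Functor.map_comp, ← Functor.map_comp, unitL_natural]

theorem act_Q (K : DRing.Cx A) :
    act φ (DerivedCategory.Q.obj K) ≫ fac φ K = m2 (fac φ K) (fac φ _) ≫
      (_root_.DTen.ε R).app ((_root_.DTen.resCx φ).obj K, (_root_.DTen.resCx φ).obj (𝟙_ (DRing.Cx A))) ≫
        DerivedCategory.Q.map (_root_.DTen.resTenCx φ K (𝟙_ (DRing.Cx A)) ≫ (_root_.DTen.resCx φ).map (ρ_ K).hom) := by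
  have hn := (_root_.DTen.resFactors φ).hom.naturality (ρ_ K).hom
  dsimp at hn
  rw [act, Category.assoc, _root_.DTen.unitR_app, Functor.map_comp, Category.assoc]
  erw [hn, reassoc_of% (resPF_Q φ K (𝟙_ (DRing.Cx A))), ← Functor.map_comp]

theorem actL_Q (K : DRing.Cx A) :
    actL φ (DerivedCategory.Q.obj K) ≫ fac φ K = m2 (fac φ _) (fac φ K) ≫
      (_root_.DTen.ε R).app ((_root_.DTen.resCx φ).obj (𝟙_ (DRing.Cx A)), (_root_.DTen.resCx φ).obj K) ≫
        DerivedCategory.Q.map (actCx φ K) := by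
  have hn := (_root_.DTen.resFactors φ).hom.naturality (λ_ K).hom
  dsimp at hn
  rw [actL, Category.assoc, _root_.DTen.unitL_app, Functor.map_comp, Category.assoc]
  erw [hn, reassoc_of% (resPF_Q φ (𝟙_ (DRing.Cx A)) K), ← Functor.map_comp]
  rfl

/-- the unit acts as the identity -/
theorem oneD_act (X : Dual.D A) :
    m2 (𝟙 _) (oneD φ) ≫ act φ X = (_root_.DTen.unitR R).app ((DRing.restrictD φ).obj X) := by
  obtain ⟨K, -, ⟨e⟩⟩ := exists_rep X
  suffices hK : m2 (𝟙 _) (oneD φ) ≫ act φ (DerivedCategory.Q.obj K) =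
      (_root_.DTen.unitR R).app ((DRing.restrictD φ).obj (DerivedCategory.Q.obj K)) by
    have h1 := unitR_natural ((DRing.restrictD φ).map e.hom)
    haveI : IsIso (m2 ((DRing.restrictD φ).map e.hom) (𝟙 (_root_.DTen.unit R))) :=
      isIso_LTen_map _ _ inferInstance inferInstance
    rw [← cancel_epi (m2 ((DRing.restrictD φ).map e.hom) (𝟙 (_root_.DTen.unit R))), h1, ← hK, Category.assoc,
      ← act_natural, m2_comp_assoc, m2_comp_assoc]
    simp
  rw [← cancel_mono (fac φ K), Category.assoc, act_Q, m2_comp_assoc, oneD_fac, Category.id_comp,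
    ← unitR_natural, _root_.DTen.unitR_app, ← oneCx_unitR φ K, Functor.map_comp]
  have h2 : m2 (fac φ K) (DerivedCategory.Q.map (oneCx φ)) =
      m2 (fac φ K) (𝟙 (_root_.DTen.unit R)) ≫ m2 (DerivedCategory.Q.map (𝟙 _)) (DerivedCategory.Q.map (oneCx φ)) := by
    rw [m2_comp, CategoryTheory.Functor.map_id]
    simp
  rw [h2, Category.assoc, ε_natural_assoc, MonoidalCategory.id_tensorHom]
  simp only [Functor.map_comp, Category.assoc]

end Act

section Square

variable {R A R' A' : Type u} [CommRing R] [CommRing A] [CommRing R'] [CommRing A']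
  {φ : R →+* A} {ρ : R →+* R'} {α : A →+* A'} {φ' : R' →+* A'} (h : α.comp φ = φ'.comp ρ)

/-- the two restrictions -/
noncomputable abbrev rc (Y : Dual.D A') :
    (DRing.restrictD φ).obj ((DRing.restrictD α).obj Y) ⟶ (DRing.restrictD ρ).obj ((DRing.restrictD φ').obj Y) :=
  (TrivBC.resComm h).hom.app Y

@[reassoc]
theorem rc_natural {X Y : Dual.D A'} (f : X ⟶ Y) :
    (DRing.restrictD φ).map ((DRing.restrictD α).map f) ≫ rc h Y =
      rc h X ≫ (DRing.restrictD ρ).map ((DRing.restrictD φ').map f) :=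
  (TrivBC.resComm h).hom.naturality f

@[reassoc]
theorem rc_fac (T : DRing.Cx A') :
    rc h (DerivedCategory.Q.obj T) ≫ (DRing.restrictD ρ).map (fac φ' T) ≫ fac ρ ((_root_.DTen.resCx φ').obj T) =
      (DRing.restrictD φ).map (fac α T) ≫ fac φ ((_root_.DTen.resCx α).obj T) ≫ DerivedCategory.Q.map (commCx h T) := by
  rw [rc, resComm_app_Q]
  simp only [Category.assoc]
  rw [← Functor.map_comp_assoc, Iso.inv_hom_id_app]
  erw [CategoryTheory.Functor.map_id, Category.id_comp, Iso.inv_hom_id_app]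
  exact congrArg (fun t => _ ≫ _ ≫ t) (Category.comp_id _)

variable [_root_.DTen.HasLTen R] [_root_.DTen.HasLTen A] [_root_.DTen.HasLTen R'] [_root_.DTen.HasLTen A']
  [_root_.DTen.HasResTen φ] [_root_.DTen.ResLegIso φ] [_root_.DTen.HasResTen ρ] [_root_.DTen.ResLegIso ρ]
  [_root_.DTen.HasResTen α] [_root_.DTen.ResLegIso α] [_root_.DTen.HasResTen φ'] [_root_.DTen.ResLegIso φ']

/-- the comparisons of composites agree -/
theorem resPF_square (Y Z : Dual.D A') :
    m2 (rc h Y) (rc h Z) ≫ (_root_.DTen.resPF ρ).app ((DRing.restrictD φ').obj Y, (DRing.restrictD φ').obj Z) ≫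
        (DRing.restrictD ρ).map ((_root_.DTen.resPF φ').app (Y, Z)) =
      (_root_.DTen.resPF φ).app ((DRing.restrictD α).obj Y, (DRing.restrictD α).obj Z) ≫
        (DRing.restrictD φ).map ((_root_.DTen.resPF α).app (Y, Z)) ≫ rc h ((_root_.DTen.LTen₂ A').obj (Y, Z)) := by
  obtain ⟨K, hK, ⟨a⟩⟩ := exists_rep Y
  obtain ⟨L, -, ⟨b⟩⟩ := exists_rep Z
  suffices hQ : m2 (rc h (DerivedCategory.Q.obj K)) (rc h (DerivedCategory.Q.obj L)) ≫
        (_root_.DTen.resPF ρ).app ((DRing.restrictD φ').obj (DerivedCategory.Q.obj K), (DRing.restrictD φ').obj (DerivedCategory.Q.obj L)) ≫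
        (DRing.restrictD ρ).map ((_root_.DTen.resPF φ').app (DerivedCategory.Q.obj K, DerivedCategory.Q.obj L)) =
      (_root_.DTen.resPF φ).app ((DRing.restrictD α).obj (DerivedCategory.Q.obj K), (DRing.restrictD α).obj (DerivedCategory.Q.obj L)) ≫
        (DRing.restrictD φ).map ((_root_.DTen.resPF α).app (DerivedCategory.Q.obj K, DerivedCategory.Q.obj L)) ≫
          rc h ((_root_.DTen.LTen₂ A').obj (DerivedCategory.Q.obj K, DerivedCategory.Q.obj L)) by
    haveI : IsIso (m2 ((DRing.restrictD φ).map ((DRing.restrictD α).map a.hom))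
        ((DRing.restrictD φ).map ((DRing.restrictD α).map b.hom))) := isIso_LTen_map _ _ inferInstance inferInstance
    rw [← cancel_epi (m2 ((DRing.restrictD φ).map ((DRing.restrictD α).map a.hom))
        ((DRing.restrictD φ).map ((DRing.restrictD α).map b.hom))), m2_comp_assoc, rc_natural, rc_natural,
      ← m2_comp_assoc, resPF_natural_assoc ρ ((DRing.restrictD φ').map a.hom) ((DRing.restrictD φ').map b.hom),
      resPF_natural_assoc φ ((DRing.restrictD α).map a.hom) ((DRing.restrictD α).map b.hom),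
      ← Functor.map_comp, resPF_natural φ' a.hom b.hom, Functor.map_comp, ← Category.assoc, ← Category.assoc,
      Category.assoc (m2 _ _), hQ, ← Functor.map_comp_assoc, resPF_natural α a.hom b.hom, Functor.map_comp]
    simp only [Category.assoc]
    rw [rc_natural]
  haveI := Groth.L10.DTen.isIso_ε A' K L (Or.inl hK)
  haveI : IsIso ((DRing.restrictD ρ).map ((DRing.restrictD φ').map ((_root_.DTen.ε A').app (K, L)) ≫ fac φ' (K ⊗ L)) ≫
      fac ρ ((_root_.DTen.resCx φ').obj (K ⊗ L))) := inferInstance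
  rw [← cancel_mono ((DRing.restrictD ρ).map ((DRing.restrictD φ').map ((_root_.DTen.ε A').app (K, L)) ≫ fac φ' (K ⊗ L)) ≫
      fac ρ ((_root_.DTen.resCx φ').obj (K ⊗ L)))]
  simp only [Category.assoc]
  have hnρ := (_root_.DTen.resFactors ρ).hom.naturality (_root_.DTen.resTenCx φ' K L)
  have hnφ := (_root_.DTen.resFactors φ).hom.naturality (_root_.DTen.resTenCx α K L)
  dsimp at hnρ hnφ
  rw [← Functor.map_comp_assoc (DRing.restrictD ρ), resPF_Q φ' K L, Functor.map_comp, Functor.map_comp]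
  simp only [Category.assoc]
  erw [hnρ]
  rw [← resPF_natural_assoc ρ (fac φ' K) (fac φ' L)]
  erw [reassoc_of% (resPF_Q ρ ((_root_.DTen.resCx φ').obj K) ((_root_.DTen.resCx φ').obj L))]
  rw [m2_comp_assoc, m2_comp_assoc]
  simp only [Category.assoc]
  rw [rc_fac, rc_fac, ← m2_comp_assoc, ← m2_comp_assoc, ε_natural_assoc]
  have hrc : rc h ((_root_.DTen.LTen₂ A').obj (DerivedCategory.Q.obj K, DerivedCategory.Q.obj L)) ≫
      (DRing.restrictD ρ).map ((DRing.restrictD φ').map ((_root_.DTen.ε A').app (K, L))) =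
      (DRing.restrictD φ).map ((DRing.restrictD α).map ((_root_.DTen.ε A').app (K, L))) ≫
        rc h (DerivedCategory.Q.obj (K ⊗ L)) := (rc_natural h ((_root_.DTen.ε A').app (K, L))).symm
  rw [Functor.map_comp (DRing.restrictD ρ), Category.assoc, reassoc_of% hrc]
  erw [rc_fac h (K ⊗ L)]
  rw [← Functor.map_comp_assoc (DRing.restrictD φ), ← Functor.map_comp_assoc (DRing.restrictD φ), Category.assoc,
    resPF_Q α K L, Functor.map_comp, Functor.map_comp]
  simp only [Category.assoc]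
  erw [reassoc_of% hnφ]
  rw [← resPF_natural_assoc φ (fac α K) (fac α L)]
  erw [reassoc_of% (resPF_Q φ ((_root_.DTen.resCx α).obj K) ((_root_.DTen.resCx α).obj L))]
  simp only [← Functor.map_comp]
  rw [commCx_tensor]

end Square

section Assoc

variable {R A : Type u} [CommRing R] [CommRing A] (φ : R →+* A) [_root_.DTen.HasLTen R] [_root_.DTen.HasLTen A]
  [_root_.DTen.HasResTen φ] [_root_.DTen.ResLegIso φ] [_root_.DTen.HasLTen₃ R] [_root_.DTen.IsSymMonoidal R]

/-- the action on the left is associative -/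
theorem actL_assoc (b c : Dual.D A) :
    (_root_.DTen.associator ((DRing.restrictD φ).obj (_root_.DTen.unit A)) ((DRing.restrictD φ).obj b)
          ((DRing.restrictD φ).obj c)).hom ≫
        m2 (𝟙 _) ((_root_.DTen.resPF φ).app (b, c)) ≫ actL φ ((_root_.DTen.LTen₂ A).obj (b, c)) =
      m2 (actL φ b) (𝟙 _) ≫ (_root_.DTen.resPF φ).app (b, c) := by
  obtain ⟨K, hK, ⟨e₁⟩⟩ := exists_rep b
  obtain ⟨L, -, ⟨e₂⟩⟩ := exists_rep c
  suffices hQ : (_root_.DTen.associator ((DRing.restrictD φ).obj (_root_.DTen.unit A)) ((DRing.restrictD φ).obj (DerivedCategory.Q.obj K))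
          ((DRing.restrictD φ).obj (DerivedCategory.Q.obj L))).hom ≫
        m2 (𝟙 ((DRing.restrictD φ).obj (_root_.DTen.unit A))) ((_root_.DTen.resPF φ).app (DerivedCategory.Q.obj K, DerivedCategory.Q.obj L)) ≫
          actL φ ((_root_.DTen.LTen₂ A).obj (DerivedCategory.Q.obj K, DerivedCategory.Q.obj L)) =
      m2 (actL φ (DerivedCategory.Q.obj K)) (𝟙 _) ≫
        (_root_.DTen.resPF φ).app (DerivedCategory.Q.obj K, DerivedCategory.Q.obj L) by
    let u := (DRing.restrictD φ).map e₁.hom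
    let v := (DRing.restrictD φ).map e₂.hom
    haveI : IsIso (m2 (m2 (𝟙 ((DRing.restrictD φ).obj (_root_.DTen.unit A))) u) v) :=
      isIso_LTen_map _ _ (isIso_LTen_map _ _ inferInstance inferInstance) inferInstance
    have hα : m2 (m2 (𝟙 ((DRing.restrictD φ).obj (_root_.DTen.unit A))) u) v ≫ (_root_.DTen.associator ((DRing.restrictD φ).obj (_root_.DTen.unit A)) ((DRing.restrictD φ).obj b) ((DRing.restrictD φ).obj c)).hom =
        (_root_.DTen.associator ((DRing.restrictD φ).obj (_root_.DTen.unit A)) ((DRing.restrictD φ).obj (DerivedCategory.Q.obj K))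
          ((DRing.restrictD φ).obj (DerivedCategory.Q.obj L))).hom ≫ m2 (𝟙 ((DRing.restrictD φ).obj (_root_.DTen.unit A))) (m2 u v) := by
      rw [← cancel_mono ((_root_.DTen.assocR R).app (((DRing.restrictD φ).obj (_root_.DTen.unit A)), ((DRing.restrictD φ).obj b, (DRing.restrictD φ).obj c)))]
      have n1 := (_root_.DTen.assocR R).naturality
        (X := (((DRing.restrictD φ).obj (_root_.DTen.unit A)), ((DRing.restrictD φ).obj (DerivedCategory.Q.obj K), (DRing.restrictD φ).obj (DerivedCategory.Q.obj L))))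
        (Y := (((DRing.restrictD φ).obj (_root_.DTen.unit A)), ((DRing.restrictD φ).obj b, (DRing.restrictD φ).obj c))) (Prod.mkHom (𝟙 ((DRing.restrictD φ).obj (_root_.DTen.unit A))) (Prod.mkHom u v))
      have n2 := (_root_.DTen.assocL R).naturality
        (X := (((DRing.restrictD φ).obj (_root_.DTen.unit A)), ((DRing.restrictD φ).obj (DerivedCategory.Q.obj K), (DRing.restrictD φ).obj (DerivedCategory.Q.obj L))))
        (Y := (((DRing.restrictD φ).obj (_root_.DTen.unit A)), ((DRing.restrictD φ).obj b, (DRing.restrictD φ).obj c))) (Prod.mkHom (𝟙 ((DRing.restrictD φ).obj (_root_.DTen.unit A))) (Prod.mkHom u v))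
      simp only [Category.assoc]
      rw [_root_.DTen.associator_hom_assocR]
      refine n2.trans ?_
      refine Eq.trans ?_ (congrArg (_ ≫ ·) n1).symm
      rw [← Category.assoc, _root_.DTen.associator_hom_assocR]
    rw [← cancel_epi (m2 (m2 (𝟙 ((DRing.restrictD φ).obj (_root_.DTen.unit A))) u) v), reassoc_of% hα, m2_comp_assoc, m2_comp_assoc, resPF_natural φ e₁.hom e₂.hom,
      actL_natural φ e₁.hom]
    simp only [Category.id_comp, Category.comp_id]
    rw [show m2 (actL φ (DerivedCategory.Q.obj K) ≫ u) v = m2 (actL φ (DerivedCategory.Q.obj K)) (𝟙 _) ≫ m2 u v from by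
        rw [m2_comp, Category.id_comp], Category.assoc, resPF_natural φ e₁.hom e₂.hom, ← reassoc_of% hQ,
      show m2 (𝟙 ((DRing.restrictD φ).obj (_root_.DTen.unit A)))
          ((_root_.DTen.resPF φ).app (DerivedCategory.Q.obj K, DerivedCategory.Q.obj L) ≫
            (DRing.restrictD φ).map (m2 e₁.hom e₂.hom)) = m2 (𝟙 _) ((_root_.DTen.resPF φ).app _) ≫ m2 (𝟙 _) ((DRing.restrictD φ).map (m2 e₁.hom e₂.hom)) from by
        rw [m2_comp, Category.id_comp], Category.assoc, actL_natural]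
  haveI := Groth.L10.DTen.isIso_ε A K L (Or.inl hK)
  rw [← cancel_mono ((DRing.restrictD φ).map ((_root_.DTen.ε A).app (K, L)) ≫ fac φ (K ⊗ L))]
  let a := (_root_.DTen.resCx φ).obj (𝟙_ (DRing.Cx A))
  let bK := (_root_.DTen.resCx φ).obj K
  let cL := (_root_.DTen.resCx φ).obj L
  let x : Dual.D R × (Dual.D R × Dual.D R) :=
    (((DRing.restrictD φ).obj (_root_.DTen.unit A)), ((DRing.restrictD φ).obj (DerivedCategory.Q.obj K), (DRing.restrictD φ).obj (DerivedCategory.Q.obj L)))
  let i : x ⟶ (_root_.DTen.QQQ R).obj (a, (bK, cL)) := Prod.mkHom (fac φ _) (Prod.mkHom (fac φ K) (fac φ L))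
  let Φ : (_root_.DTen.LTen₃ R).obj x ⟶ DerivedCategory.Q.obj ((_root_.DTen.resCx φ).obj (K ⊗ L)) :=
    (_root_.DTen.LTen₃ R).map i ≫ (_root_.DTen.ε₃ R).app (a, (bK, cL)) ≫
      DerivedCategory.Q.map (a ◁ _root_.DTen.resTenCx φ K L ≫ actCx φ (K ⊗ L))
  have hR : m2 (𝟙 ((DRing.restrictD φ).obj (_root_.DTen.unit A))) ((_root_.DTen.resPF φ).app (DerivedCategory.Q.obj K, DerivedCategory.Q.obj L)) ≫
      actL φ ((_root_.DTen.LTen₂ A).obj (DerivedCategory.Q.obj K, DerivedCategory.Q.obj L)) ≫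
        (DRing.restrictD φ).map ((_root_.DTen.ε A).app (K, L)) ≫ fac φ (K ⊗ L) = (_root_.DTen.assocR R).app x ≫ Φ := by
    have n := (_root_.DTen.assocR R).naturality i
    rw [← actL_natural_assoc]
    erw [actL_Q]
    rw [m2_comp_assoc, m2_comp_assoc]
    erw [Category.assoc ((_root_.DTen.resPF φ).app _), resPF_Q]
    simp only [Φ, ← reassoc_of% n]
    erw [reassoc_of% (_root_.DTen.assocR_fac R (a, (bK, cL)))]
    dsimp only [i, _root_.DTen.βR]
    rw [Functor.map_comp]
    simp only [Category.assoc]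
    change _ = m2 (fac φ (𝟙_ (DRing.Cx A))) (m2 (fac φ K) (fac φ L)) ≫ m2 (𝟙 _) ((_root_.DTen.ε R).app (bK, cL)) ≫ _
    rw [m2_comp_assoc]
    have hsplit : m2 (fac φ (𝟙_ (DRing.Cx A))) (m2 (fac φ K) (fac φ L) ≫ (_root_.DTen.ε R).app (bK, cL) ≫
        DerivedCategory.Q.map (_root_.DTen.resTenCx φ K L)) =
        m2 (fac φ (𝟙_ (DRing.Cx A))) (m2 (fac φ K) (fac φ L) ≫ (_root_.DTen.ε R).app (bK, cL)) ≫
          m2 (DerivedCategory.Q.map (𝟙 a)) (DerivedCategory.Q.map (_root_.DTen.resTenCx φ K L)) := by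
      rw [m2_comp, CategoryTheory.Functor.map_id, Category.comp_id, Category.assoc]
    simp only [Category.id_comp, Category.comp_id]
    erw [hsplit]
    rw [Category.assoc]
    erw [reassoc_of% (ε_natural (𝟙 a) (_root_.DTen.resTenCx φ K L))]
    rw [MonoidalCategory.id_tensorHom]
    rfl
  have hL : m2 (actL φ (DerivedCategory.Q.obj K)) (𝟙 _) ≫
      (_root_.DTen.resPF φ).app (DerivedCategory.Q.obj K, DerivedCategory.Q.obj L) ≫
        (DRing.restrictD φ).map ((_root_.DTen.ε A).app (K, L)) ≫ fac φ (K ⊗ L) = (_root_.DTen.assocL R).app x ≫ Φ := by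
    have n := (_root_.DTen.assocL R).naturality i
    rw [resPF_Q, m2_comp_assoc, Category.id_comp, actL_Q]
    simp only [Φ, ← reassoc_of% n]
    erw [reassoc_of% (_root_.DTen.assocL_fac R (a, (bK, cL)))]
    dsimp only [i, _root_.DTen.βL, _root_.DTen.LTenL_map]
    change _ = m2 (m2 (fac φ (𝟙_ (DRing.Cx A))) (fac φ K)) (fac φ L) ≫ (m2 ((_root_.DTen.ε R).app (a, bK)) (𝟙 _) ≫
      (_root_.DTen.ε R).app (a ⊗ bK, cL) ≫ DerivedCategory.Q.map (α_ a bK cL).hom) ≫ _
    simp only [Category.assoc]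
    rw [m2_comp_assoc, ← Functor.map_comp, ← actCx_assoc, Functor.map_comp]
    have hsplit : m2 (m2 (fac φ (𝟙_ (DRing.Cx A))) (fac φ K) ≫ (_root_.DTen.ε R).app (a, bK) ≫
        DerivedCategory.Q.map (actCx φ K)) (fac φ L) =
        m2 (m2 (fac φ (𝟙_ (DRing.Cx A))) (fac φ K) ≫ (_root_.DTen.ε R).app (a, bK)) (fac φ L) ≫
          m2 (DerivedCategory.Q.map (actCx φ K)) (DerivedCategory.Q.map (𝟙 cL)) := by
      rw [m2_comp, CategoryTheory.Functor.map_id, Category.comp_id, Category.assoc]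
    simp only [Category.id_comp, Category.comp_id]
    erw [hsplit]
    rw [Category.assoc]
    erw [reassoc_of% (ε_natural (actCx φ K) (𝟙 cL))]
    rw [MonoidalCategory.tensorHom_id]
  simp only [Category.assoc]
  rw [hR, hL, ← Category.assoc, _root_.DTen.associator_hom_assocR]

end Assoc

end Groth.L29.TrivBC
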