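import Groth.Agent.L29.TrivBC.Cmp
import Groth.Agent.L10.DTen.BaseTen

/-!
Coherence of the lax monoidal structure of restriction of scalars on complexes.
-/

set_option autoImplicit false
set_option backward.defeqAttrib.useBackward true
set_option backward.isDefEq.respectTransparency false
set_option backward.isDefEq.respectTransparency.types false

universe u

open CategoryTheory CategoryTheory.Limits MonoidalCategory HomologicalComplex

attribute [local instance] HasDerivedCategory.standard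

namespace Groth.L29.TrivBC

section Square

variable {R A R' A' : Type u} [CommRing R] [CommRing A] [CommRing R'] [CommRing A']
  {φ : R →+* A} {ρ : R →+* R'} {α : A →+* A'} {φ' : R' →+* A'} (h : α.comp φ = φ'.comp ρ)

theorem commCx_f (T : DRing.Cx A') (n : ℤ) :
    (commCx h T).f n = (TrivBC.resCommMod h).hom.app (T.X n) := by
  simp [commCx]

theorem resTen₀_square {M N P : ModuleCat.{u} A'} (g : M ⊗ N ⟶ P) :
    ((curriedTensor (ModuleCat.{u} R)).map ((TrivBC.resCommMod h).hom.app M)).app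
        ((_root_.DTen.resM φ).obj ((_root_.DTen.resM α).obj N)) ≫
      ((curriedTensor (ModuleCat.{u} R)).obj ((_root_.DTen.resM ρ).obj ((_root_.DTen.resM φ').obj M))).map
        ((TrivBC.resCommMod h).hom.app N) ≫
      _root_.DTen.resTen₀app ρ ((_root_.DTen.resM φ').obj M) ((_root_.DTen.resM φ').obj N) ≫
        (_root_.DTen.resM ρ).map (_root_.DTen.resTen₀app φ' M N ≫ (_root_.DTen.resM φ').map g) =
      _root_.DTen.resTen₀app φ ((_root_.DTen.resM α).obj M) ((_root_.DTen.resM α).obj N) ≫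
        (_root_.DTen.resM φ).map (_root_.DTen.resTen₀app α M N ≫ (_root_.DTen.resM α).map g) ≫
          (TrivBC.resCommMod h).hom.app P :=
  ModuleCat.hom_ext (TensorProduct.ext' fun _ _ => rfl)

set_option maxHeartbeats 400000 in
/-- restriction along a composite is compatible with the comparisons -/
theorem commCx_tensor (K L : DRing.Cx A') :
    (commCx h K ⊗ₘ commCx h L) ≫ _root_.DTen.resTenCx ρ ((_root_.DTen.resCx φ').obj K) ((_root_.DTen.resCx φ').obj L) ≫
        (_root_.DTen.resCx ρ).map (_root_.DTen.resTenCx φ' K L) =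
      _root_.DTen.resTenCx φ ((_root_.DTen.resCx α).obj K) ((_root_.DTen.resCx α).obj L) ≫
        (_root_.DTen.resCx φ).map (_root_.DTen.resTenCx α K L) ≫ commCx h (K ⊗ L) := by
  change HomologicalComplex.mapBifunctorMap (commCx h K) (commCx h L) _ _ ≫ _ = _
  refine HomologicalComplex.hom_ext _ _ fun n => HomologicalComplex.mapBifunctor.hom_ext fun p q hpq => ?_
  rw [HomologicalComplex.comp_f, HomologicalComplex.comp_f, HomologicalComplex.comp_f, HomologicalComplex.comp_f]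
  rw [HomologicalComplex.ι_mapBifunctorMap_assoc]
  refine Eq.trans (congrArg (fun t => _ ≫ _ ≫ t) (_root_.DTen.ι_resTenCx_assoc ρ ((_root_.DTen.resCx φ').obj K)
    ((_root_.DTen.resCx φ').obj L) p q n hpq (((_root_.DTen.resCx ρ).map (_root_.DTen.resTenCx φ' K L)).f n))) ?_
  refine Eq.trans ?_ (_root_.DTen.ι_resTenCx_assoc φ ((_root_.DTen.resCx α).obj K) ((_root_.DTen.resCx α).obj L) p q n hpq
    (((_root_.DTen.resCx φ).map (_root_.DTen.resTenCx α K L)).f n ≫ (commCx h (K ⊗ L)).f n)).symm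
  rw [commCx_f, commCx_f]
  have e1 : (_root_.DTen.resM ρ).map (HomologicalComplex.ιTensorObj ((_root_.DTen.resCx φ').obj K) ((_root_.DTen.resCx φ').obj L) p q n hpq) ≫
      ((_root_.DTen.resCx ρ).map (_root_.DTen.resTenCx φ' K L)).f n =
      (_root_.DTen.resM ρ).map (_root_.DTen.resTen₀app φ' (K.X p) (L.X q) ≫
        (_root_.DTen.resM φ').map (HomologicalComplex.ιTensorObj K L p q n hpq)) :=
    ((_root_.DTen.resM ρ).map_comp _ _).symm.trans (congrArg _ (_root_.DTen.ι_resTenCx φ' K L p q n hpq))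
  have e2 : (_root_.DTen.resM φ).map (HomologicalComplex.ιTensorObj ((_root_.DTen.resCx α).obj K) ((_root_.DTen.resCx α).obj L) p q n hpq) ≫
      ((_root_.DTen.resCx φ).map (_root_.DTen.resTenCx α K L)).f n ≫ (commCx h (K ⊗ L)).f n =
      (_root_.DTen.resM φ).map (_root_.DTen.resTen₀app α (K.X p) (L.X q) ≫
        (_root_.DTen.resM α).map (HomologicalComplex.ιTensorObj K L p q n hpq)) ≫
          (TrivBC.resCommMod h).hom.app ((HomologicalComplex.tensorObj K L).X n) :=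
    (Category.assoc _ _ _).symm.trans (congrArg₂ (fun a b => a ≫ b)
      (((_root_.DTen.resM φ).map_comp _ _).symm.trans (congrArg _ (_root_.DTen.ι_resTenCx α K L p q n hpq)))
      (commCx_f h (K ⊗ L) n))
  refine Eq.trans (congrArg (fun t => _ ≫ _ ≫ _ ≫ t) e1) (Eq.trans ?_ (congrArg (fun t => _ ≫ t) e2).symm)
  exact resTen₀_square h (HomologicalComplex.ιTensorObj K L p q n hpq)

end Square

section Unit

variable {R A : Type u} [CommRing R] [CommRing A] (φ : R →+* A)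

/-- `1 ↦ 1` -/
noncomputable def oneMod : 𝟙_ (ModuleCat.{u} R) ⟶ (_root_.DTen.resM φ).obj (𝟙_ (ModuleCat.{u} A)) :=
  Functor.LaxMonoidal.ε (ModuleCat.restrictScalars.{u} φ)

/-- `1 ↦ 1` on complexes -/
noncomputable def oneCx : 𝟙_ (DRing.Cx R) ⟶ (_root_.DTen.resCx φ).obj (𝟙_ (DRing.Cx A)) :=
  (HomologicalComplex.single _ _ 0).map (oneMod φ) ≫
    (HomologicalComplex.singleMapHomologicalComplex (_root_.DTen.resM φ) (ComplexShape.up ℤ) 0).inv.app _

theorem oneCx_f :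
    (oneCx φ).f 0 = (HomologicalComplex.singleObjXSelf (ComplexShape.up ℤ) 0 (𝟙_ (ModuleCat.{u} R))).hom ≫ oneMod φ ≫
      (_root_.DTen.resM φ).map (HomologicalComplex.singleObjXSelf (ComplexShape.up ℤ) 0 (𝟙_ (ModuleCat.{u} A))).inv := by
  simp [oneCx, HomologicalComplex.single_map_f_self, HomologicalComplex.singleObjXSelf,
    HomologicalComplex.singleObjXIsoOfEq, eqToHom_map]
  exact congrArg (oneMod φ ≫ ·) (Category.id_comp _)

theorem ι_rightUnitor {S : Type u} [CommRing S] (Y : DRing.Cx S) (n : ℤ) :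
    HomologicalComplex.ιTensorObj Y (𝟙_ (DRing.Cx S)) n 0 n (add_zero n) ≫ (ρ_ Y).hom.f n =
      Y.X n ◁ (HomologicalComplex.singleObjXSelf (ComplexShape.up ℤ) 0 (𝟙_ (ModuleCat.{u} S))).hom ≫ (ρ_ (Y.X n)).hom := by
  have h := congrArg (fun t => t.f n) (ρ_ Y).inv_hom_id
  have h' : (ρ_ Y).inv.f n = (HomologicalComplex.rightUnitor' Y).inv n := rfl
  simp only [HomologicalComplex.comp_f, HomologicalComplex.id_f] at h
  rw [h', HomologicalComplex.rightUnitor'_inv] at h
  rw [← cancel_epi ((ρ_ (Y.X n)).inv ≫ Y.X n ◁ (HomologicalComplex.singleObjXSelf (ComplexShape.up ℤ) 0 (𝟙_ (ModuleCat.{u} S))).inv)]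
  simp only [Category.assoc] at h ⊢
  rw [MonoidalCategory.whiskerLeft_inv_hom_assoc, Iso.inv_hom_id]
  exact h

theorem ι_leftUnitor {S : Type u} [CommRing S] (Y : DRing.Cx S) (n : ℤ) :
    HomologicalComplex.ιTensorObj (𝟙_ (DRing.Cx S)) Y 0 n n (zero_add n) ≫ (λ_ Y).hom.f n =
      (HomologicalComplex.singleObjXSelf (ComplexShape.up ℤ) 0 (𝟙_ (ModuleCat.{u} S))).hom ▷ Y.X n ≫ (λ_ (Y.X n)).hom := by
  have h := congrArg (fun t => t.f n) (λ_ Y).inv_hom_id
  have h' : (λ_ Y).inv.f n = (HomologicalComplex.leftUnitor' Y).inv n := rfl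
  simp only [HomologicalComplex.comp_f, HomologicalComplex.id_f] at h
  rw [h', HomologicalComplex.leftUnitor'_inv] at h
  rw [← cancel_epi ((λ_ (Y.X n)).inv ≫ (HomologicalComplex.singleObjXSelf (ComplexShape.up ℤ) 0 (𝟙_ (ModuleCat.{u} S))).inv ▷ Y.X n)]
  simp only [Category.assoc] at h ⊢
  rw [MonoidalCategory.inv_hom_whiskerRight_assoc, Iso.inv_hom_id]
  exact h

theorem resTen₀_unitR {U : ModuleCat.{u} R} {V : ModuleCat.{u} A} (e : U ≅ 𝟙_ _) (e' : V ≅ 𝟙_ _) (M : ModuleCat.{u} A) :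
    (ρ_ ((_root_.DTen.resM φ).obj M)).inv ≫ (_root_.DTen.resM φ).obj M ◁ e.inv ≫
        ((curriedTensor (ModuleCat.{u} R)).map (𝟙 ((_root_.DTen.resM φ).obj M))).app U ≫
        ((curriedTensor (ModuleCat.{u} R)).obj ((_root_.DTen.resM φ).obj M)).map
          (e.hom ≫ oneMod φ ≫ (_root_.DTen.resM φ).map e'.inv) ≫
        _root_.DTen.resTen₀app φ M V ≫ (_root_.DTen.resM φ).map (M ◁ e'.hom ≫ (ρ_ M).hom) = 𝟙 _ := by
  rw [CategoryTheory.Functor.map_id, NatTrans.id_app]
  refine ModuleCat.hom_ext (LinearMap.ext fun x => ?_)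
  show (e'.hom (e'.inv ((oneMod φ).hom (e.hom (e.inv (1 : R))))) : A) • (show M from x) = x
  rw [Iso.inv_hom_id_apply, Iso.inv_hom_id_apply]
  exact (congrArg (fun t : A => t • (show M from x))
    ((ModuleCat.restrictScalars_η φ (1 : R)).trans (map_one φ))).trans (one_smul A _)

theorem resTen₀_unitL {U : ModuleCat.{u} R} {V : ModuleCat.{u} A} (e : U ≅ 𝟙_ _) (e' : V ≅ 𝟙_ _) (M : ModuleCat.{u} A) :
    (λ_ ((_root_.DTen.resM φ).obj M)).inv ≫ e.inv ▷ (_root_.DTen.resM φ).obj M ≫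
        ((curriedTensor (ModuleCat.{u} R)).map (e.hom ≫ oneMod φ ≫ (_root_.DTen.resM φ).map e'.inv)).app
          ((_root_.DTen.resM φ).obj M) ≫
        ((curriedTensor (ModuleCat.{u} R)).obj ((_root_.DTen.resM φ).obj V)).map (𝟙 ((_root_.DTen.resM φ).obj M)) ≫
        _root_.DTen.resTen₀app φ V M ≫ (_root_.DTen.resM φ).map (e'.hom ▷ M ≫ (λ_ M).hom) = 𝟙 _ := by
  rw [CategoryTheory.Functor.map_id, Category.id_comp]
  refine ModuleCat.hom_ext (LinearMap.ext fun x => ?_)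
  show (e'.hom (e'.inv ((oneMod φ).hom (e.hom (e.inv (1 : R))))) : A) • (show M from x) = x
  rw [Iso.inv_hom_id_apply, Iso.inv_hom_id_apply]
  exact (congrArg (fun t : A => t • (show M from x))
    ((ModuleCat.restrictScalars_η φ (1 : R)).trans (map_one φ))).trans (one_smul A _)

/-- the right unit -/
theorem oneCx_unitR (Y : DRing.Cx A) :
    ((_root_.DTen.resCx φ).obj Y ◁ oneCx φ) ≫ _root_.DTen.resTenCx φ Y (𝟙_ (DRing.Cx A)) ≫
        (_root_.DTen.resCx φ).map (ρ_ Y).hom = (ρ_ ((_root_.DTen.resCx φ).obj Y)).hom := by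
  rw [← cancel_epi (ρ_ ((_root_.DTen.resCx φ).obj Y)).inv, Iso.inv_hom_id]
  refine HomologicalComplex.hom_ext _ _ fun n => ?_
  have h' : (ρ_ ((_root_.DTen.resCx φ).obj Y)).inv.f n =
    (HomologicalComplex.rightUnitor' ((_root_.DTen.resCx φ).obj Y)).inv n := rfl
  simp only [HomologicalComplex.comp_f, h', HomologicalComplex.rightUnitor'_inv, Category.assoc]
  erw [HomologicalComplex.ι_mapBifunctorMap_assoc, _root_.DTen.ι_resTenCx_assoc φ Y _ n 0 n (add_zero n),
    ← Functor.map_comp, ι_rightUnitor Y n]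
  rw [oneCx_f]
  exact resTen₀_unitR φ (HomologicalComplex.singleObjXSelf _ 0 _) (HomologicalComplex.singleObjXSelf _ 0 _) (Y.X n)

/-- the left unit -/
theorem oneCx_unitL (Y : DRing.Cx A) :
    (oneCx φ ▷ (_root_.DTen.resCx φ).obj Y) ≫ _root_.DTen.resTenCx φ (𝟙_ (DRing.Cx A)) Y ≫
        (_root_.DTen.resCx φ).map (λ_ Y).hom = (λ_ ((_root_.DTen.resCx φ).obj Y)).hom := by
  rw [← cancel_epi (λ_ ((_root_.DTen.resCx φ).obj Y)).inv, Iso.inv_hom_id]
  refine HomologicalComplex.hom_ext _ _ fun n => ?_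
  have h' : (λ_ ((_root_.DTen.resCx φ).obj Y)).inv.f n =
    (HomologicalComplex.leftUnitor' ((_root_.DTen.resCx φ).obj Y)).inv n := rfl
  simp only [HomologicalComplex.comp_f, h', HomologicalComplex.leftUnitor'_inv, Category.assoc]
  erw [HomologicalComplex.ι_mapBifunctorMap_assoc, _root_.DTen.ι_resTenCx_assoc φ _ Y 0 n n (zero_add n),
    ← Functor.map_comp, ι_leftUnitor Y n]
  rw [oneCx_f]
  exact resTen₀_unitL φ (HomologicalComplex.singleObjXSelf _ 0 _) (HomologicalComplex.singleObjXSelf _ 0 _) (Y.X n)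

/-- the module of `A` acting -/
noncomputable def actMod {V : ModuleCat.{u} A} (e : V ≅ 𝟙_ _) (M : ModuleCat.{u} A) :
    (_root_.DTen.resM φ).obj V ⊗ (_root_.DTen.resM φ).obj M ⟶ (_root_.DTen.resM φ).obj M :=
  _root_.DTen.resTen₀app φ V M ≫ (_root_.DTen.resM φ).map (e.hom ▷ M ≫ (λ_ M).hom)

theorem actMod_assoc {V : ModuleCat.{u} A} (e : V ≅ 𝟙_ _) {M N P : ModuleCat.{u} A} (g : M ⊗ N ⟶ P) :
    actMod φ e M ▷ (_root_.DTen.resM φ).obj N ≫ _root_.DTen.resTen₀app φ M N ≫ (_root_.DTen.resM φ).map g =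
      (α_ _ _ _).hom ≫ (_root_.DTen.resM φ).obj V ◁ (_root_.DTen.resTen₀app φ M N ≫ (_root_.DTen.resM φ).map g) ≫
        actMod φ e P := by
  refine ModuleCat.hom_ext (TensorProduct.ext_threefold fun v m n => ?_)
  show g.hom (((e.hom (show V from v) : A) • (show M from m)) ⊗ₜ[A] (show N from n)) =
    (e.hom (show V from v) : A) • g.hom ((show M from m) ⊗ₜ[A] (show N from n))
  exact (congrArg g.hom (TensorProduct.smul_tmul' _ _ _).symm).trans (map_smul g.hom _ _)

/-- the action of the restricted unit complex -/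
noncomputable def actCx (Y : DRing.Cx A) :
    (_root_.DTen.resCx φ).obj (𝟙_ (DRing.Cx A)) ⊗ (_root_.DTen.resCx φ).obj Y ⟶ (_root_.DTen.resCx φ).obj Y :=
  _root_.DTen.resTenCx φ (𝟙_ (DRing.Cx A)) Y ≫ (_root_.DTen.resCx φ).map (λ_ Y).hom

theorem ι_actCx (Y : DRing.Cx A) (n : ℤ) :
    HomologicalComplex.ιTensorObj ((_root_.DTen.resCx φ).obj (𝟙_ (DRing.Cx A))) ((_root_.DTen.resCx φ).obj Y) 0 n n
        (zero_add n) ≫ (actCx φ Y).f n =
      actMod φ (HomologicalComplex.singleObjXSelf (ComplexShape.up ℤ) 0 (𝟙_ (ModuleCat.{u} A))) (Y.X n) := by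
  refine (_root_.DTen.ι_resTenCx_assoc φ (𝟙_ (DRing.Cx A)) Y 0 n n (zero_add n)
    (((_root_.DTen.resCx φ).map (λ_ Y).hom).f n)).trans ?_
  exact congrArg (_ ≫ ·) (((_root_.DTen.resM φ).map_comp _ _).symm.trans (congrArg _ (ι_leftUnitor Y n)))

/-- the action is associative -/
theorem actCx_assoc (b c : DRing.Cx A) :
    actCx φ b ▷ (_root_.DTen.resCx φ).obj c ≫ _root_.DTen.resTenCx φ b c =
      (α_ _ _ _).hom ≫ (_root_.DTen.resCx φ).obj (𝟙_ (DRing.Cx A)) ◁ _root_.DTen.resTenCx φ b c ≫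
        actCx φ (b ⊗ c) := by
  refine HomologicalComplex.hom_ext _ _ fun n => mapBifunctor₁₂.hom_ext fun i₁ i₂ i₃ hi => ?_
  by_cases h1 : i₁ = 0
  · subst h1
    have h23 : i₂ + i₃ = n := by rw [← hi]; simp [ComplexShape.r]
    rw [HomologicalComplex.comp_f, HomologicalComplex.comp_f, HomologicalComplex.comp_f]
    refine Eq.trans ?_ ((reassoc_of% (ι_mapBifunctorAssociatorX_hom (curriedAssociatorNatIso (ModuleCat.{u} R))
      ((_root_.DTen.resCx φ).obj (𝟙_ (DRing.Cx A))) ((_root_.DTen.resCx φ).obj b) ((_root_.DTen.resCx φ).obj c)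
      (ComplexShape.up ℤ) (ComplexShape.up ℤ) (ComplexShape.up ℤ) 0 i₂ i₃ n hi)) _).symm
    rw [mapBifunctor₁₂.ι_eq _ _ _ _ _ _ _ 0 i₂ i₃ i₂ n (zero_add i₂) h23,
      mapBifunctor₂₃.ι_eq _ _ _ _ _ _ _ _ 0 i₂ i₃ n n h23 (zero_add n), Category.assoc, Category.assoc]
    refine Eq.trans (congrArg (fun t => _ ≫ t) (HomologicalComplex.ι_mapBifunctorMap_assoc _ _ _ _ _ _ _ _ _)) ?_
    refine Eq.trans ?_ (congrArg (fun t => _ ≫ _ ≫ t) (HomologicalComplex.ι_mapBifunctorMap_assoc _ _ _ _ _ _ _ _ _)).symm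
    refine Eq.trans (congrArg (fun t => _ ≫ _ ≫ _ ≫ t) (_root_.DTen.ι_resTenCx φ b c i₂ i₃ n h23)) ?_
    refine Eq.trans ?_ (congrArg (fun t => _ ≫ _ ≫ _ ≫ _ ≫ t) (ι_actCx φ (b ⊗ c) n)).symm
    simp only [HomologicalComplex.id_f, CategoryTheory.Functor.map_id, NatTrans.id_app, Category.id_comp]
    rw [← NatTrans.comp_app_assoc, ← Functor.map_comp, ι_actCx, ← Functor.map_comp_assoc,
      _root_.DTen.ι_resTenCx φ b c i₂ i₃ n h23]
    exact actMod_assoc φ _ (HomologicalComplex.ιTensorObj b c i₂ i₃ n h23)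
  · refine IsZero.eq_of_src ?_ _ _
    exact ((curriedTensor (ModuleCat.{u} R)).flip.obj _).map_isZero
      (((curriedTensor (ModuleCat.{u} R)).flip.obj _).map_isZero ((_root_.DTen.resM φ).map_isZero
        (HomologicalComplex.isZero_single_obj_X (ComplexShape.up ℤ) 0 (𝟙_ (ModuleCat.{u} A)) i₁ h1)))

end Unit

end Groth.L29.TrivBC
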