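import Groth.Agent.L29.TrivBC.Pair
import Groth.Agent.L10.DTen.PerfBC

/-!
The base change map of `RHom` and the evaluation map at the restricted unit.
-/

set_option autoImplicit false
set_option backward.defeqAttrib.useBackward true
set_option backward.isDefEq.respectTransparency false
set_option backward.isDefEq.respectTransparency.types false

universe u

open CategoryTheory CategoryTheory.Limits MonoidalCategory

attribute [local instance] HasDerivedCategory.standard

namespace Groth.L29.TrivBC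

open Groth.L10.DTen Groth.L10.KFlat

variable {R A : Type u} [CommRing R] [CommRing A] (φ : R →+* A) [_root_.DTen.HasLTen R] [_root_.DTen.HasLTen A]
  [_root_.DTen.HasLTen₃ R] [_root_.DTen.IsSymMonoidal R]
  [_root_.DTen.HasLBase φ] [_root_.DTen.HasResTen φ] [_root_.DTen.ResLegIso φ]
  [_root_.DTen.HasRHom R] [_root_.DTen.HasRHom A]

/-- base change of `RHom` is the evaluation map at the restricted unit -/
theorem jL_bcRHom (P K : Dual.D R) [IsIso (_root_.DTen.rhomBC φ P ((_root_.DTen.LBase φ).obj K))] :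
    jL φ ((_root_.DTen.RHomR R P).obj K) ≫ (DRing.restrictD φ).map (_root_.DTen.bcRHom φ P K) ≫
        _root_.DTen.rhomBC φ P ((_root_.DTen.LBase φ).obj K) =
      _root_.DTen.evalTen ((DRing.restrictD φ).obj (_root_.DTen.unit A)) K P ≫
        (_root_.DTen.RHomR R P).map (jL φ K) := by
  let B := (DRing.restrictD φ).obj (_root_.DTen.unit A)
  let H := (_root_.DTen.RHomR R P).obj K
  let LB := _root_.DTen.LBase φ
  refine bijective_ev.1 ?_
  have hn : tR ((_root_.DTen.RHomR R P).map (jL φ K)) P ≫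
      _root_.DTen.ev P ((DRing.restrictD φ).obj (LB.obj K)) =
      _root_.DTen.ev P ((_root_.DTen.LTen₂ R).obj (B, K)) ≫ jL φ K :=
    (_root_.DTen.rhomAdj R P).counit.naturality (jL φ K)
  beta_reduce
  rw [tR_comp, tR_comp, tR_comp, Category.assoc, Category.assoc, Category.assoc, hn]
  erw [reassoc_of% (_root_.DTen.evalTen_fac B K P)]
  erw [_root_.DTen.rhomBC_fac φ P (LB.obj K)]
  rw [_root_.DTen.rhomBCCore, _root_.DTen.evalTenAux, Category.assoc]
  change _ = _ ≫ m2 (𝟙 B) (_root_.DTen.ev P K) ≫ jL φ K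
  rw [jL_natural, ← θ_bcRHom φ P K, Functor.map_comp, Functor.map_comp]
  have hjθ : jL φ ((_root_.DTen.LTen₂ R).obj (H, P)) ≫ (DRing.restrictD φ).map (θ φ H P) =
      m2 (𝟙 B) (ω φ H P) ≫ actL φ ((_root_.DTen.LTen₂ A).obj (LB.obj H, LB.obj P)) := by
    rw [jL, Category.assoc, ← actL_natural, m2_comp_assoc, θ_fac, Category.id_comp]
  erw [reassoc_of% hjθ]
  have hω : m2 (𝟙 B) (ω φ H P) = m2 (𝟙 B) (m2 ((_root_.DTen.baseAdj φ).unit.app H)
      ((_root_.DTen.baseAdj φ).unit.app P)) ≫ m2 (𝟙 B) ((_root_.DTen.resPF φ).app (LB.obj H, LB.obj P)) := by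
    rw [m2_comp, Category.id_comp]; rfl
  rw [hω]
  have ha := assoc_natural (𝟙 B) ((_root_.DTen.baseAdj φ).unit.app H) ((_root_.DTen.baseAdj φ).unit.app P)
  have hA := actL_assoc φ (LB.obj H) (LB.obj P)
  have e1 : tR (jL φ H) P ≫ tR ((DRing.restrictD φ).map (_root_.DTen.bcRHom φ P K)) P ≫
      m2 (𝟙 _) ((_root_.DTen.baseAdj φ).unit.app P) ≫
        (_root_.DTen.resPF φ).app ((_root_.DTen.RHomR A (LB.obj P)).obj (LB.obj K), LB.obj P) =
      m2 (m2 (𝟙 B) ((_root_.DTen.baseAdj φ).unit.app H)) ((_root_.DTen.baseAdj φ).unit.app P) ≫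
        m2 (actL φ (LB.obj H)) (𝟙 _) ≫ (_root_.DTen.resPF φ).app (LB.obj H, LB.obj P) ≫
          (DRing.restrictD φ).map (tR (_root_.DTen.bcRHom φ P K) (LB.obj P)) := by
    rw [← resPF_natural φ (_root_.DTen.bcRHom φ P K) (𝟙 (LB.obj P)), CategoryTheory.Functor.map_id, jL]
    change m2 _ (𝟙 P) ≫ m2 _ (𝟙 P) ≫ _ = _
    rw [m2_comp_assoc, m2_comp_assoc, m2_comp_assoc, m2_comp_assoc]
    simp only [Category.id_comp, Category.comp_id, Category.assoc]
    erw [Category.comp_id]
  erw [reassoc_of% e1, ← reassoc_of% hA, reassoc_of% ha]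
  simp only [Category.assoc]
  rfl

theorem isIso_bcRHom_iff_evalTen (P K : Dual.D R) [IsIso (_root_.DTen.rhomBC φ P ((_root_.DTen.LBase φ).obj K))] :
    IsIso (_root_.DTen.bcRHom φ P K) ↔
      IsIso (_root_.DTen.evalTen ((DRing.restrictD φ).obj (_root_.DTen.unit A)) K P) := by
  haveI := isIso_jL φ ((_root_.DTen.RHomR R P).obj K)
  haveI := isIso_jL φ K
  constructor
  · intro hb
    haveI := hb
    haveI : IsIso (_root_.DTen.evalTen ((DRing.restrictD φ).obj (_root_.DTen.unit A)) K P ≫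
        (_root_.DTen.RHomR R P).map (jL φ K)) := by rw [← jL_bcRHom]; infer_instance
    exact IsIso.of_isIso_comp_right _ ((_root_.DTen.RHomR R P).map (jL φ K))
  · intro he
    haveI := he
    haveI : IsIso (jL φ ((_root_.DTen.RHomR R P).obj K) ≫ (DRing.restrictD φ).map (_root_.DTen.bcRHom φ P K) ≫
        _root_.DTen.rhomBC φ P ((_root_.DTen.LBase φ).obj K)) := by rw [jL_bcRHom]; infer_instance
    haveI : IsIso ((DRing.restrictD φ).map (_root_.DTen.bcRHom φ P K) ≫
        _root_.DTen.rhomBC φ P ((_root_.DTen.LBase φ).obj K)) :=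
      IsIso.of_isIso_comp_left (jL φ ((_root_.DTen.RHomR R P).obj K)) _
    haveI : IsIso ((DRing.restrictD φ).map (_root_.DTen.bcRHom φ P K)) :=
      IsIso.of_isIso_comp_right _ (_root_.DTen.rhomBC φ P ((_root_.DTen.LBase φ).obj K))
    exact isIso_of_reflects_iso _ (DRing.restrictD φ)

end Groth.L29.TrivBC
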