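import Groth.Agent.L29.TrivBC.Pair
import Groth.Agent.L10.DTen.PerfBC

/-!
The base change map of trivial duality is the base change map of `RHom`.
-/

set_option autoImplicit false
set_option backward.defeqAttrib.useBackward true
set_option backward.isDefEq.respectTransparency false
set_option backward.isDefEq.respectTransparency.types false

universe u

open CategoryTheory CategoryTheory.Limits MonoidalCategory

attribute [local instance] HasDerivedCategory.standard

namespace Groth.L29.TrivBC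

open Groth.L10.DTen Groth.L10.KFlat

section Unit

variable {A A' : Type u} [CommRing A] [CommRing A'] (α : A →+* A')

theorem isIso_oneCx_transpose :
    IsIso ((_root_.DTen.extCx α).map (oneCx α) ≫ (counitCx α).app (𝟙_ (DRing.Cx A'))) := by
  refine @HomologicalComplex.Hom.isIso_of_components _ _ _ _ _ _ _ _ fun i => ?_
  by_cases hi : i = 0
  · subst hi
    rw [HomologicalComplex.comp_f]
    let eA := HomologicalComplex.singleObjXSelf (ComplexShape.up ℤ) 0 (𝟙_ (ModuleCat.{u} A))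
    let eA' := HomologicalComplex.singleObjXSelf (ComplexShape.up ℤ) 0 (𝟙_ (ModuleCat.{u} A'))
    let t : (_root_.DTen.extM α).obj (𝟙_ (ModuleCat.{u} A)) ⟶ 𝟙_ (ModuleCat.{u} A') :=
      (_root_.DTen.extM α).map (oneMod α) ≫ (ModuleCat.extendRestrictScalarsAdj.{u, u, u} α).counit.app _
    haveI : IsIso t := by
      refine (congrArg IsIso ?_).mpr (Iso.isIso_inv (Functor.Monoidal.εIso (_root_.DTen.extM α)))
      rw [← cancel_epi (Functor.Monoidal.εIso (_root_.DTen.extM α)).hom, Iso.hom_inv_id]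
      refine ModuleCat.hom_ext (LinearMap.ext_ring ?_)
      exact (congrArg ((1 : A') • ·) ((ModuleCat.restrictScalars_η α (1 : A)).trans (map_one α))).trans (one_smul A' _)
    have e1 : (_root_.DTen.extM α).map ((oneCx α).f 0) ≫
        (ModuleCat.extendRestrictScalarsAdj.{u, u, u} α).counit.app ((𝟙_ (DRing.Cx A')).X 0) =
        (_root_.DTen.extM α).map eA.hom ≫ t ≫ eA'.inv := by
      have hn : (_root_.DTen.extM α).map ((_root_.DTen.resM α).map eA'.inv) ≫
          (ModuleCat.extendRestrictScalarsAdj.{u, u, u} α).counit.app ((𝟙_ (DRing.Cx A')).X 0) =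
          (ModuleCat.extendRestrictScalarsAdj.{u, u, u} α).counit.app _ ≫ eA'.inv :=
        (ModuleCat.extendRestrictScalarsAdj.{u, u, u} α).counit.naturality eA'.inv
      rw [oneCx_f, Functor.map_comp, Functor.map_comp]
      simp only [Category.assoc, t]
      rw [hn]
    refine Eq.mp (congrArg IsIso ?_) (show IsIso ((_root_.DTen.extM α).map eA.hom ≫ t ≫ eA'.inv) from inferInstance)
    exact e1.symm
  · refine ⟨0, ?_, ?_⟩
    · exact ((_root_.DTen.extM α).map_isZero (HomologicalComplex.isZero_single_obj_X (ComplexShape.up ℤ) 0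
        (𝟙_ (ModuleCat.{u} A)) i hi)).eq_of_src _ _
    · exact (HomologicalComplex.isZero_single_obj_X (ComplexShape.up ℤ) 0 (𝟙_ (ModuleCat.{u} A')) i hi).eq_of_src _ _

theorem univ_oneD : Univ α (oneD α) := by
  haveI := isIso_oneCx_transpose α
  refine univ_Q α _ (𝟙 _) Groth.L10.KFlat.isKFlat_unit _ ?_
  rw [Category.id_comp]
  infer_instance

end Unit

variable {R A R' A' : Type u} [CommRing R] [CommRing A] [CommRing R'] [CommRing A']
  {φ : R →+* A} {ρ : R →+* R'} {α : A →+* A'} {φ' : R' →+* A'} (h : α.comp φ = φ'.comp ρ)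
  [_root_.DTen.HasLTen R] [_root_.DTen.HasLTen A] [_root_.DTen.HasLTen R'] [_root_.DTen.HasLTen A']
  [_root_.DTen.HasResTen φ] [_root_.DTen.ResLegIso φ] [_root_.DTen.HasResTen ρ] [_root_.DTen.ResLegIso ρ]
  [_root_.DTen.HasResTen α] [_root_.DTen.ResLegIso α] [_root_.DTen.HasResTen φ'] [_root_.DTen.ResLegIso φ']
  [_root_.DTen.HasLBase ρ]
  {L : Dual.D A ⥤ Dual.D A'} (adjα : L ⊣ DRing.restrictD α)

/-- the restricted unit arrow -/
noncomputable abbrev uX (X : Dual.D A) :
    (DRing.restrictD φ).obj X ⟶ (DRing.restrictD ρ).obj ((DRing.restrictD φ').obj (L.obj X)) :=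
  (DRing.restrictD φ).map (adjα.unit.app X) ≫ rc h (L.obj X)

/-- its transpose -/
noncomputable def cX (X : Dual.D A) :
    (_root_.DTen.LBase ρ).obj ((DRing.restrictD φ).obj X) ⟶ (DRing.restrictD φ').obj (L.obj X) :=
  ((_root_.DTen.baseAdj ρ).homEquiv _ _).symm (uX h adjα X)

/-- the restricted unit arrow at the ring -/
noncomputable abbrev p₀ : (DRing.restrictD φ).obj (_root_.DTen.unit A) ⟶
    (DRing.restrictD ρ).obj ((DRing.restrictD φ').obj (_root_.DTen.unit A')) :=
  (DRing.restrictD φ).map (oneD α) ≫ rc h (_root_.DTen.unit A')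

/-- its transpose -/
noncomputable def pP : (_root_.DTen.LBase ρ).obj ((DRing.restrictD φ).obj (_root_.DTen.unit A)) ⟶
    (DRing.restrictD φ').obj (_root_.DTen.unit A') :=
  ((_root_.DTen.baseAdj ρ).homEquiv _ _).symm (p₀ h)

theorem cX_fac (X : Dual.D A) :
    (_root_.DTen.baseAdj ρ).unit.app _ ≫ (DRing.restrictD ρ).map (cX h adjα X) = uX h adjα X :=
  ((_root_.DTen.baseAdj ρ).homEquiv_unit _ _ _).symm.trans (Equiv.apply_symm_apply _ _)

theorem pP_fac :
    (_root_.DTen.baseAdj ρ).unit.app _ ≫ (DRing.restrictD ρ).map (pP (φ' := φ') h) = p₀ h :=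
  ((_root_.DTen.baseAdj ρ).homEquiv_unit _ _ _).symm.trans (Equiv.apply_symm_apply _ _)

include adjα in
theorem isIso_pP (hc : IsIso (cX h adjα (_root_.DTen.unit A))) : IsIso (pP (φ' := φ') h) := by
  haveI := hc
  haveI : IsIso ((adjα.homEquiv _ _).symm (oneD α)) := (univ_iff α adjα _).1 (univ_oneD α)
  have e : pP (φ' := φ') h = cX h adjα (_root_.DTen.unit A) ≫
      (DRing.restrictD φ').map ((adjα.homEquiv _ _).symm (oneD α)) := by
    rw [cX, ← Adjunction.homEquiv_naturality_right_symm, pP]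
    refine congrArg _ ?_
    rw [Category.assoc, ← rc_natural, ← Functor.map_comp_assoc, ← adjα.homEquiv_unit, Equiv.apply_symm_apply]
  rw [e]
  infer_instance

/-- the actions agree -/
theorem uX_act (X : Dual.D A) :
    m2 (uX h adjα X) (p₀ (φ' := φ') h) ≫ (_root_.DTen.resPF ρ).app ((DRing.restrictD φ').obj (L.obj X),
        (DRing.restrictD φ').obj (_root_.DTen.unit A')) ≫ (DRing.restrictD ρ).map (act φ' (L.obj X)) =
      act φ X ≫ uX h adjα X := by
  rw [act, Functor.map_comp, uX, p₀, ← m2_comp_assoc, reassoc_of% (resPF_square h (L.obj X) (_root_.DTen.unit A'))]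
  erw [← rc_natural h ((_root_.DTen.unitR A').app (L.obj X))]
  rw [← Functor.map_comp_assoc]
  erw [resPF_natural_assoc φ (adjα.unit.app X) (oneD α)]
  rw [← Functor.map_comp_assoc, act,
    Category.assoc, ← Functor.map_comp_assoc]
  refine congrArg (fun t => _ ≫ (DRing.restrictD φ).map t ≫ _) ?_
  change m2 (adjα.unit.app X) (oneD α) ≫ act α (L.obj X) = _
  rw [← Category.comp_id (adjα.unit.app X), ← Category.id_comp (oneD α), ← m2_comp_assoc]
  erw [oneD_act, unitR_natural]
  simp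

theorem θ_act [_root_.DTen.HasLBase φ] (X : Dual.D A) :
    θ ρ ((DRing.restrictD φ).obj X) ((DRing.restrictD φ).obj (_root_.DTen.unit A)) ≫
        m2 (cX h adjα X) (pP h) ≫ act φ' (L.obj X) =
      (_root_.DTen.LBase ρ).map (act φ X) ≫ cX h adjα X := by
  apply ((_root_.DTen.baseAdj ρ).homEquiv _ _).injective
  rw [Adjunction.homEquiv_unit, Adjunction.homEquiv_unit, Functor.map_comp, ← Category.assoc, θ_fac, ω,
    Functor.map_comp, Category.assoc, ← resPF_natural_assoc]
  erw [m2_comp_assoc]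
  rw [cX_fac, pP_fac, uX_act, Functor.map_comp, Adjunction.unit_naturality_assoc, cX_fac]

variable [_root_.DTen.HasLBase φ] [_root_.DTen.HasRHom R] [_root_.DTen.HasRHom R']
  {Rφ : Dual.D R ⥤ Dual.D A} (adj : DRing.restrictD φ ⊣ Rφ)
  {Rφ' : Dual.D R' ⥤ Dual.D A'} (adj' : DRing.restrictD φ' ⊣ Rφ')

/-- the base change map, for the chosen base change -/
noncomputable def bc₀ (K : Dual.D R) (hc : IsIso (cX h adjα (Rφ.obj K))) :
    L.obj (Rφ.obj K) ⟶ Rφ'.obj ((_root_.DTen.LBase ρ).obj K) :=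
  haveI := hc
  adj'.homEquiv _ _ (inv (cX h adjα (Rφ.obj K)) ≫ (_root_.DTen.LBase ρ).map (adj.counit.app K))

theorem isIso_bc₀_iff (K : Dual.D R) (hc : IsIso (cX h adjα (Rφ.obj K))) (hp : IsIso (pP (φ' := φ') h))
    [_root_.DTen.HasLBase φ']
    [IsIso (_root_.DTen.rhomBC ρ ((DRing.restrictD φ).obj (_root_.DTen.unit A)) ((_root_.DTen.LBase ρ).obj K))] :
    IsIso (bc₀ h adjα adj adj' K hc) ↔
      IsIso (_root_.DTen.bcRHom ρ ((DRing.restrictD φ).obj (_root_.DTen.unit A)) K) := by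
  haveI := hc; haveI := hp
  haveI := isIso_eK φ adj K
  haveI := isIso_eK φ' adj' ((_root_.DTen.LBase ρ).obj K)
  let P := (DRing.restrictD φ).obj (_root_.DTen.unit A)
  let N := (_root_.DTen.LBase ρ).obj K
  let β := (_root_.DTen.LBase ρ).map (inv (eK φ adj K)) ≫ cX h adjα (Rφ.obj K) ≫
    (DRing.restrictD φ').map (bc₀ h adjα adj adj' K hc) ≫ eK φ' adj' N ≫ _root_.DTen.RHomMap (pP h) N
  haveI := isIso_θ ρ ((_root_.DTen.RHomR R P).obj K) P
  have hβ : β = _root_.DTen.bcRHom ρ P K := by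
    refine bijective_ev.1 ?_
    rw [← cancel_epi (θ ρ ((_root_.DTen.RHomR R P).obj K) P), θ_bcRHom]
    have key : ∀ {Y : Dual.D R'} {M M' : Dual.D R'} (g : M' ⟶ M) (x : Y ⟶ (_root_.DTen.RHomR R' M).obj N),
        tR (x ≫ _root_.DTen.RHomMap g N) M' ≫ _root_.DTen.ev M' N = m2 x g ≫ _root_.DTen.ev M N := by
      intro Y M M' g x
      rw [tR_comp, Category.assoc, _root_.DTen.RHom_map_ev g N, ← Category.assoc]
      exact congrArg (· ≫ _) ((m2_comp _ _ _ _).trans (by simp))
    have e1 : ((_root_.DTen.LBase ρ).map (inv (eK φ adj K)) ≫ cX h adjα (Rφ.obj K) ≫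
        (DRing.restrictD φ').map (bc₀ h adjα adj adj' K hc) ≫ eK φ' adj' N) ≫ _root_.DTen.RHomMap (pP h) N = β := by
      simp only [β, Category.assoc]
    dsimp only
    rw [← e1, key, show m2 ((_root_.DTen.LBase ρ).map (inv (eK φ adj K)) ≫ cX h adjα (Rφ.obj K) ≫
        (DRing.restrictD φ').map (bc₀ h adjα adj adj' K hc) ≫ eK φ' adj' N) (pP h) =
        m2 ((_root_.DTen.LBase ρ).map (inv (eK φ adj K))) ((_root_.DTen.LBase ρ).map (𝟙 P)) ≫
          m2 (cX h adjα (Rφ.obj K)) (pP h) ≫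
          m2 ((DRing.restrictD φ').map (bc₀ h adjα adj adj' K hc)) (𝟙 _) ≫ m2 (eK φ' adj' N) (𝟙 _) from by
      rw [m2_comp, m2_comp, m2_comp, CategoryTheory.Functor.map_id]
      simp only [Category.id_comp, Category.comp_id, Category.assoc]]
    simp only [Category.assoc]
    erw [eK_fac φ' adj' N]
    rw [act_natural_assoc, bc₀, ← adj'.homEquiv_counit, Equiv.symm_apply_apply]
    erw [← reassoc_of% (θ_natural ρ (inv (eK φ adj K)) (𝟙 P))]
    erw [reassoc_of% (θ_act h adjα (Rφ.obj K))]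
    rw [IsIso.hom_inv_id_assoc, ← Functor.map_comp, ← Functor.map_comp]
    refine congrArg _ ?_
    rw [← eK_fac φ adj K]
    erw [m2_comp_assoc]
    simp [m2_id, P]
  rw [← hβ]
  constructor
  · intro hb
    haveI := hb
    infer_instance
  · intro hb
    haveI : IsIso ((DRing.restrictD φ').map (bc₀ h adjα adj adj' K hc)) := by
      haveI : IsIso (_root_.DTen.RHomMap (pP (φ' := φ') h) N) := inferInstanceAs
        (IsIso (((_root_.DTen.RHom R').map (pP (φ' := φ') h).op).app N))
      haveI : IsIso (cX h adjα (Rφ.obj K) ≫ (DRing.restrictD φ').map (bc₀ h adjα adj adj' K hc) ≫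
          eK φ' adj' N ≫ _root_.DTen.RHomMap (pP h) N) :=
        IsIso.of_isIso_comp_left ((_root_.DTen.LBase ρ).map (inv (eK φ adj K))) _
      haveI : IsIso ((DRing.restrictD φ').map (bc₀ h adjα adj adj' K hc) ≫
          eK φ' adj' N ≫ _root_.DTen.RHomMap (pP h) N) :=
        IsIso.of_isIso_comp_left (cX h adjα (Rφ.obj K)) _
      exact IsIso.of_isIso_comp_right _ (eK φ' adj' N ≫ _root_.DTen.RHomMap (pP h) N)
    exact isIso_of_reflects_iso _ (DRing.restrictD φ')

/-- the statement for arbitrary choices of base change -/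
theorem isIso_bcMap_iff [DRing.HasLBaseChange ρ] [DRing.HasLBaseChange α] [_root_.DTen.HasLBase φ']
    (adjρ : DRing.LBaseChange ρ ⊣ DRing.restrictD ρ) (adjα : DRing.LBaseChange α ⊣ DRing.restrictD α)
    (K : Dual.D R) (hc : IsIso (TrivBC.cmp adjρ adjα h (Rφ.obj K)))
    (hc₁ : IsIso (TrivBC.cmp adjρ adjα h (_root_.DTen.unit A)))
    [IsIso (_root_.DTen.rhomBC ρ ((DRing.restrictD φ).obj (_root_.DTen.unit A)) ((_root_.DTen.LBase ρ).obj K))] :
    IsIso (TrivBC.bcMap adjρ adjα h adj adj' K hc) ↔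
      IsIso (_root_.DTen.bcRHom ρ ((DRing.restrictD φ).obj (_root_.DTen.unit A)) K) := by
  let κ := adjρ.leftAdjointUniq (_root_.DTen.baseAdj ρ)
  have hk : ∀ X, TrivBC.cmp adjρ adjα h X = κ.hom.app _ ≫ cX h adjα X := fun X => by
    apply (adjρ.homEquiv _ _).injective
    rw [TrivBC.cmp, Equiv.apply_symm_apply, Adjunction.homEquiv_unit, Functor.map_comp, ← Category.assoc,
      Adjunction.unit_leftAdjointUniq_hom_app, cX_fac]
  have hi : ∀ X, IsIso (TrivBC.cmp adjρ adjα h X) → IsIso (cX h adjα X) := fun X hX => by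
    rw [hk X] at hX
    exact IsIso.of_isIso_comp_left (κ.hom.app _) _
  haveI := hc
  haveI := hi _ hc
  rw [← isIso_bc₀_iff h adjα adj adj' K (hi _ hc) (isIso_pP h adjα (hi _ hc₁))]
  have e : TrivBC.bcMap adjρ adjα h adj adj' K hc =
      bc₀ h adjα adj adj' K (hi _ hc) ≫ Rφ'.map (κ.inv.app K) := by
    rw [TrivBC.bcMap, bc₀, ← Adjunction.homEquiv_naturality_right]
    refine congrArg _ ?_
    rw [Category.assoc, IsIso.inv_comp_eq, hk, Category.assoc, IsIso.hom_inv_id_assoc]
    exact ((Iso.hom_inv_id_app_assoc κ _ _).symm.trans (congrArg (_ ≫ ·) (κ.inv.naturality _).symm))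
  rw [e]
  exact isIso_comp_right_iff _ _

end Groth.L29.TrivBC
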