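import Groth.Agent.L29.TrivBC.Coherence
import Groth.Agent.L10.DTen.Proj

/-!
Tensoring with the restricted unit is base change; `RHom` out of it is trivial duality.
-/

set_option autoImplicit false
set_option backward.defeqAttrib.useBackward true
set_option backward.isDefEq.respectTransparency false
set_option backward.isDefEq.respectTransparency.types false

universe u

open CategoryTheory CategoryTheory.Limits MonoidalCategory HomologicalComplex

attribute [local instance] HasDerivedCategory.standard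

namespace Groth.L29.TrivBC

open Groth.L10.DTen Groth.L10.KFlat

variable {R A : Type u} [CommRing R] [CommRing A] (φ : R →+* A)

section Cx

variable {S : Type u} [CommRing S]

theorem isIso_ι_left (X Y : DRing.Cx S) (hX : ∀ i : ℤ, i ≠ 0 → IsZero (X.X i)) (n : ℤ) :
    IsIso (HomologicalComplex.ιTensorObj X Y 0 n n (zero_add n)) := by
  classical
  refine ⟨HomologicalComplex.mapBifunctorDesc fun p q h => if hp : p = 0 then
      eqToHom (by subst hp; rw [show q = n from (zero_add q).symm.trans h]; rfl) else 0, ?_, ?_⟩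
  · erw [HomologicalComplex.ι_mapBifunctorDesc]
    simp
  · refine HomologicalComplex.mapBifunctor.hom_ext fun p q h => ?_
    by_cases hp : p = 0
    · subst hp
      obtain rfl : q = n := (zero_add q).symm.trans h
      erw [HomologicalComplex.ι_mapBifunctorDesc_assoc]
      simp
    · exact IsZero.eq_of_src (((curriedTensor (ModuleCat.{u} S)).flip.obj _).map_isZero (hX p hp)) _ _

theorem isIso_ι_right (X Y : DRing.Cx S) (hY : ∀ i : ℤ, i ≠ 0 → IsZero (Y.X i)) (n : ℤ) :
    IsIso (HomologicalComplex.ιTensorObj X Y n 0 n (add_zero n)) := by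
  classical
  refine ⟨HomologicalComplex.mapBifunctorDesc fun p q h => if hq : q = 0 then
      eqToHom (by subst hq; rw [show p = n from (add_zero p).symm.trans h]; rfl) else 0, ?_, ?_⟩
  · erw [HomologicalComplex.ι_mapBifunctorDesc]
    simp
  · refine HomologicalComplex.mapBifunctor.hom_ext fun p q h => ?_
    by_cases hq : q = 0
    · subst hq
      obtain rfl : p = n := (add_zero p).symm.trans h
      erw [HomologicalComplex.ι_mapBifunctorDesc_assoc]
      simp
    · exact IsZero.eq_of_src (((curriedTensor (ModuleCat.{u} S)).obj _).map_isZero (hY q hq)) _ _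

theorem isZero_res_unit (i : ℤ) (hi : i ≠ 0) :
    IsZero (((_root_.DTen.resCx φ).obj (𝟙_ (DRing.Cx A))).X i) :=
  (_root_.DTen.resM φ).map_isZero (HomologicalComplex.isZero_single_obj_X (ComplexShape.up ℤ) 0 (𝟙_ (ModuleCat.{u} A)) i hi)

/-- `k ⊗ a ↦ a • (1 ⊗ k)` is bijective -/
theorem isIso_unit_actR {V : ModuleCat.{u} A} (e : V ≅ 𝟙_ _) (M : ModuleCat.{u} R) :
    IsIso ((ModuleCat.extendRestrictScalarsAdj.{u, u, u} φ).unit.app M ▷ (_root_.DTen.resM φ).obj V ≫
      _root_.DTen.resTen₀app φ ((_root_.DTen.extM φ).obj M) V ≫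
        (_root_.DTen.resM φ).map ((_root_.DTen.extM φ).obj M ◁ e.hom ≫ (ρ_ _).hom)) := by
  haveI : IsIso ((ModuleCat.extendRestrictScalarsAdj.{u, u, u} φ).unit.app M ▷ (_root_.DTen.resM φ).obj V ≫
      _root_.DTen.resTen₀app φ ((_root_.DTen.extM φ).obj M) V) := by
    refine (congrArg IsIso ?_).mpr (Iso.isIso_hom (Groth.L00.BaseChangeTensor.βIso φ M V))
    exact ModuleCat.hom_ext (TensorProduct.ext' fun _ _ => rfl)
  rw [← Category.assoc]
  infer_instance

/-- `a ⊗ k ↦ a • (1 ⊗ k)` is bijective -/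
theorem isIso_unit_actL {V : ModuleCat.{u} A} (e : V ≅ 𝟙_ _) (M : ModuleCat.{u} R) :
    IsIso ((_root_.DTen.resM φ).obj V ◁ (ModuleCat.extendRestrictScalarsAdj.{u, u, u} φ).unit.app M ≫
      actMod φ e ((_root_.DTen.extM φ).obj M)) := by
  have e1 : (_root_.DTen.resM φ).obj V ◁ (ModuleCat.extendRestrictScalarsAdj.{u, u, u} φ).unit.app M ≫
      actMod φ e ((_root_.DTen.extM φ).obj M) = (β_ ((_root_.DTen.resM φ).obj V) M).hom ≫
        (ModuleCat.extendRestrictScalarsAdj.{u, u, u} φ).unit.app M ▷ (_root_.DTen.resM φ).obj V ≫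
        _root_.DTen.resTen₀app φ ((_root_.DTen.extM φ).obj M) V ≫
          (_root_.DTen.resM φ).map ((_root_.DTen.extM φ).obj M ◁ e.hom ≫ (ρ_ _).hom) :=
    ModuleCat.hom_ext (TensorProduct.ext' fun _ _ => rfl)
  rw [e1]
  haveI := isIso_unit_actR φ e M
  infer_instance

/-- `K ⊗ A → A ⊗ K` on complexes -/
theorem isIso_unit_ρ (K : DRing.Cx R) :
    IsIso (((_root_.DTen.unitCx φ).app K ▷ (_root_.DTen.resCx φ).obj (𝟙_ (DRing.Cx A))) ≫
      _root_.DTen.resTenCx φ ((_root_.DTen.extCx φ).obj K) (𝟙_ (DRing.Cx A)) ≫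
        (_root_.DTen.resCx φ).map (ρ_ ((_root_.DTen.extCx φ).obj K)).hom) := by
  refine @HomologicalComplex.Hom.isIso_of_components _ _ _ _ _ _ _ _ fun n => ?_
  haveI := isIso_ι_right K ((_root_.DTen.resCx φ).obj (𝟙_ (DRing.Cx A))) (isZero_res_unit φ) n
  refine @IsIso.of_isIso_comp_left _ _ _ _ _ (HomologicalComplex.ιTensorObj K ((_root_.DTen.resCx φ).obj (𝟙_ (DRing.Cx A))) n 0 n (add_zero n)) _ _ ?_
  have h := isIso_unit_actR φ (HomologicalComplex.singleObjXSelf (ComplexShape.up ℤ) 0 (𝟙_ (ModuleCat.{u} A))) (K.X n)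
  refine Eq.mp (congrArg IsIso ?_) h
  refine (Eq.symm ?_)
  rw [HomologicalComplex.comp_f, HomologicalComplex.comp_f]
  refine (HomologicalComplex.ι_mapBifunctorMap_assoc _ _ _ _ _ _ _ _ _).trans ?_
  refine (congrArg (fun t => _ ≫ _ ≫ t) (_root_.DTen.ι_resTenCx_assoc φ ((_root_.DTen.extCx φ).obj K)
    (𝟙_ (DRing.Cx A)) n 0 n (add_zero n) (((_root_.DTen.resCx φ).map (ρ_ ((_root_.DTen.extCx φ).obj K)).hom).f n))).trans ?_
  refine (congrArg (fun t => _ ≫ _ ≫ _ ≫ t) (((_root_.DTen.resM φ).map_comp _ _).symm.trans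
    (congrArg _ (ι_rightUnitor ((_root_.DTen.extCx φ).obj K) n)))).trans ?_
  refine congrArg (_ ≫ ·) ((congrArg (· ≫ _) ?_).trans (Category.id_comp _))
  exact CategoryTheory.Functor.map_id _ _

/-- `A ⊗ K → A ⊗ K` on complexes -/
theorem isIso_unit_actCx (K : DRing.Cx R) :
    IsIso (((_root_.DTen.resCx φ).obj (𝟙_ (DRing.Cx A)) ◁ (_root_.DTen.unitCx φ).app K) ≫
      actCx φ ((_root_.DTen.extCx φ).obj K)) := by
  refine @HomologicalComplex.Hom.isIso_of_components _ _ _ _ _ _ _ _ fun n => ?_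
  haveI := isIso_ι_left ((_root_.DTen.resCx φ).obj (𝟙_ (DRing.Cx A))) K (isZero_res_unit φ) n
  refine @IsIso.of_isIso_comp_left _ _ _ _ _ (HomologicalComplex.ιTensorObj ((_root_.DTen.resCx φ).obj (𝟙_ (DRing.Cx A))) K 0 n n (zero_add n)) _ _ ?_
  have h := isIso_unit_actL φ (HomologicalComplex.singleObjXSelf (ComplexShape.up ℤ) 0 (𝟙_ (ModuleCat.{u} A))) (K.X n)
  refine Eq.mp (congrArg IsIso ?_) h
  refine (Eq.symm ?_)
  rw [HomologicalComplex.comp_f]
  refine (HomologicalComplex.ι_mapBifunctorMap_assoc _ _ _ _ _ _ _ _ _).trans ?_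
  refine (congrArg (fun t => _ ≫ _ ≫ t) (ι_actCx φ ((_root_.DTen.extCx φ).obj K) n)).trans ?_
  refine (congrArg (· ≫ _) ?_).trans (Category.id_comp _)
  erw [CategoryTheory.Functor.map_id]
  rfl

end Cx

variable [_root_.DTen.HasLTen R] [_root_.DTen.HasLTen A] [_root_.DTen.HasResTen φ] [_root_.DTen.ResLegIso φ]
  [_root_.DTen.HasLBase φ]

/-- tensoring with the restricted unit on the right, as base change -/
noncomputable def jR (Z : Dual.D R) :
    (_root_.DTen.LTen₂ R).obj (Z, (DRing.restrictD φ).obj (_root_.DTen.unit A)) ⟶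
      (DRing.restrictD φ).obj ((_root_.DTen.LBase φ).obj Z) :=
  m2 ((_root_.DTen.baseAdj φ).unit.app Z) (𝟙 _) ≫ act φ ((_root_.DTen.LBase φ).obj Z)

/-- tensoring with the restricted unit on the left, as base change -/
noncomputable def jL (Z : Dual.D R) :
    (_root_.DTen.LTen₂ R).obj ((DRing.restrictD φ).obj (_root_.DTen.unit A), Z) ⟶
      (DRing.restrictD φ).obj ((_root_.DTen.LBase φ).obj Z) :=
  m2 (𝟙 _) ((_root_.DTen.baseAdj φ).unit.app Z) ≫ actL φ ((_root_.DTen.LBase φ).obj Z)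

@[reassoc]
theorem jR_natural {Z Z' : Dual.D R} (f : Z ⟶ Z') :
    m2 f (𝟙 _) ≫ jR φ Z' = jR φ Z ≫ (DRing.restrictD φ).map ((_root_.DTen.LBase φ).map f) := by
  have n := (_root_.DTen.baseAdj φ).unit.naturality f
  dsimp at n
  rw [jR, jR, m2_comp_assoc, n, Category.assoc, ← act_natural, m2_comp_assoc]

@[reassoc]
theorem jL_natural {Z Z' : Dual.D R} (f : Z ⟶ Z') :
    m2 (𝟙 _) f ≫ jL φ Z' = jL φ Z ≫ (DRing.restrictD φ).map ((_root_.DTen.LBase φ).map f) := by
  have n := (_root_.DTen.baseAdj φ).unit.naturality f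
  dsimp at n
  rw [jL, jL, m2_comp_assoc, n, Category.assoc, ← actL_natural, m2_comp_assoc]

theorem unit_baseCmp_fac (K : DRing.Cx R) :
    (_root_.DTen.baseAdj φ).unit.app (DerivedCategory.Q.obj K) ≫
        (DRing.restrictD φ).map ((_root_.DTen.baseCmp φ).app K) ≫ fac φ ((_root_.DTen.extCx φ).obj K) =
      DerivedCategory.Q.map ((_root_.DTen.unitCx φ).app K) := by
  rw [← Category.assoc, _root_.DTen.baseCmp_fac]
  dsimp [_root_.DTen.baseγ, fac]
  rw [Category.assoc, Iso.inv_hom_id_app]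
  exact Category.comp_id _

theorem isIso_jR (Z : Dual.D R) : IsIso (jR φ Z) := by
  obtain ⟨K, hK, ⟨e⟩⟩ := exists_rep Z
  suffices h : IsIso (jR φ (DerivedCategory.Q.obj K)) by
    haveI : IsIso (m2 e.hom (𝟙 ((DRing.restrictD φ).obj (_root_.DTen.unit A)))) :=
      isIso_LTen_map _ _ inferInstance inferInstance
    haveI : IsIso (m2 e.hom (𝟙 _) ≫ jR φ Z) := by rw [jR_natural]; infer_instance
    exact IsIso.of_isIso_comp_left (m2 e.hom (𝟙 ((DRing.restrictD φ).obj (_root_.DTen.unit A)))) _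
  haveI := isIso_baseCmp φ hK
  haveI := Groth.L10.DTen.isIso_ε R K ((_root_.DTen.resCx φ).obj (𝟙_ (DRing.Cx A))) (Or.inl hK)
  haveI : IsIso (m2 (𝟙 (DerivedCategory.Q.obj K)) (fac φ (𝟙_ (DRing.Cx A)))) :=
    isIso_LTen_map _ _ inferInstance inferInstance
  haveI := isIso_unit_ρ φ K
  refine @IsIso.of_isIso_comp_right _ _ _ _ _ _
    ((DRing.restrictD φ).map ((_root_.DTen.baseCmp φ).app K) ≫ fac φ ((_root_.DTen.extCx φ).obj K)) inferInstance ?_
  have e1 : jR φ (DerivedCategory.Q.obj K) ≫ (DRing.restrictD φ).map ((_root_.DTen.baseCmp φ).app K) ≫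
      fac φ ((_root_.DTen.extCx φ).obj K) = m2 (𝟙 _) (fac φ (𝟙_ (DRing.Cx A))) ≫
        (_root_.DTen.ε R).app (K, (_root_.DTen.resCx φ).obj (𝟙_ (DRing.Cx A))) ≫
          DerivedCategory.Q.map (((_root_.DTen.unitCx φ).app K ▷ (_root_.DTen.resCx φ).obj (𝟙_ (DRing.Cx A))) ≫
            _root_.DTen.resTenCx φ ((_root_.DTen.extCx φ).obj K) (𝟙_ (DRing.Cx A)) ≫
              (_root_.DTen.resCx φ).map (ρ_ ((_root_.DTen.extCx φ).obj K)).hom) := by
    rw [jR, Category.assoc, ← act_natural_assoc]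
    erw [act_Q]
    rw [m2_comp_assoc, m2_comp_assoc]
    simp only [Category.id_comp]
    erw [Category.assoc, unit_baseCmp_fac]
    rw [Functor.map_comp _ ((_root_.DTen.unitCx φ).app K ▷ _), ← MonoidalCategory.tensorHom_id, ← ε_natural_assoc,
      CategoryTheory.Functor.map_id, m2_comp_assoc, Category.id_comp, Category.comp_id]
    rfl
  rw [e1]
  infer_instance

theorem isIso_jL (Z : Dual.D R) : IsIso (jL φ Z) := by
  obtain ⟨K, hK, ⟨e⟩⟩ := exists_rep Z
  suffices h : IsIso (jL φ (DerivedCategory.Q.obj K)) by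
    haveI : IsIso (m2 (𝟙 ((DRing.restrictD φ).obj (_root_.DTen.unit A))) e.hom) :=
      isIso_LTen_map _ _ inferInstance inferInstance
    haveI : IsIso (m2 (𝟙 _) e.hom ≫ jL φ Z) := by rw [jL_natural]; infer_instance
    exact IsIso.of_isIso_comp_left (m2 (𝟙 ((DRing.restrictD φ).obj (_root_.DTen.unit A))) e.hom) _
  haveI := isIso_baseCmp φ hK
  haveI := Groth.L10.DTen.isIso_ε R ((_root_.DTen.resCx φ).obj (𝟙_ (DRing.Cx A))) K (Or.inr hK)
  haveI : IsIso (m2 (fac φ (𝟙_ (DRing.Cx A))) (𝟙 (DerivedCategory.Q.obj K))) :=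
    isIso_LTen_map _ _ inferInstance inferInstance
  haveI := isIso_unit_actCx φ K
  refine @IsIso.of_isIso_comp_right _ _ _ _ _ _
    ((DRing.restrictD φ).map ((_root_.DTen.baseCmp φ).app K) ≫ fac φ ((_root_.DTen.extCx φ).obj K)) inferInstance ?_
  have e1 : jL φ (DerivedCategory.Q.obj K) ≫ (DRing.restrictD φ).map ((_root_.DTen.baseCmp φ).app K) ≫
      fac φ ((_root_.DTen.extCx φ).obj K) = m2 (fac φ (𝟙_ (DRing.Cx A))) (𝟙 _) ≫
        (_root_.DTen.ε R).app ((_root_.DTen.resCx φ).obj (𝟙_ (DRing.Cx A)), K) ≫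
          DerivedCategory.Q.map (((_root_.DTen.resCx φ).obj (𝟙_ (DRing.Cx A)) ◁ (_root_.DTen.unitCx φ).app K) ≫
            actCx φ ((_root_.DTen.extCx φ).obj K)) := by
    rw [jL, Category.assoc, ← actL_natural_assoc]
    erw [actL_Q]
    rw [m2_comp_assoc, m2_comp_assoc]
    simp only [Category.id_comp]
    erw [Category.assoc, unit_baseCmp_fac]
    rw [Functor.map_comp _ ((_root_.DTen.resCx φ).obj _ ◁ _), ← MonoidalCategory.id_tensorHom, ← ε_natural_assoc,
      CategoryTheory.Functor.map_id, m2_comp_assoc, Category.id_comp, Category.comp_id]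
    rfl
  rw [e1]
  infer_instance

section Dual

variable [_root_.DTen.HasRHom R] {Rφ : Dual.D R ⥤ Dual.D A} (adj : DRing.restrictD φ ⊣ Rφ)

/-- trivial duality is `RHom` out of the restricted unit -/
noncomputable def eK (K : Dual.D R) : (DRing.restrictD φ).obj (Rφ.obj K) ⟶
    (_root_.DTen.RHomR R ((DRing.restrictD φ).obj (_root_.DTen.unit A))).obj K :=
  _root_.DTen.rhomHomEquiv _ _ _ (act φ (Rφ.obj K) ≫ adj.counit.app K)

theorem eK_fac (K : Dual.D R) :
    tR (eK φ adj K) _ ≫ _root_.DTen.ev ((DRing.restrictD φ).obj (_root_.DTen.unit A)) K =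
      act φ (Rφ.obj K) ≫ adj.counit.app K := by
  rw [← homEquiv_symm_eq]
  exact Equiv.symm_apply_apply _ _

theorem isIso_eK (K : Dual.D R) : IsIso (eK φ adj K) := by
  refine isIso_of_yoneda_map_bijective _ fun Z => ?_
  refine (Function.Bijective.of_comp_iff _ ((_root_.DTen.baseAdj φ).homEquiv _ _).bijective).1 ?_
  haveI := isIso_jR φ Z
  have e : (fun x => x ≫ eK φ adj K) ∘ (_root_.DTen.baseAdj φ).homEquiv Z (Rφ.obj K) =
      _root_.DTen.rhomHomEquiv Z _ K ∘ (fun k => jR φ Z ≫ k) ∘ (adj.homEquiv ((_root_.DTen.LBase φ).obj Z) K).symm := by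
    funext g
    simp only [Function.comp_apply]
    rw [eK, homEquiv_pre, Adjunction.homEquiv_unit, Adjunction.homEquiv_counit, jR]
    refine congrArg _ ?_
    change m2 _ (𝟙 _) ≫ _ = _
    rw [Category.assoc, ← act_natural_assoc, m2_comp_assoc, Category.comp_id]
  rw [e]
  exact (Equiv.bijective _).comp (Function.Bijective.comp
    ⟨fun a b hab => (cancel_epi _).1 hab, fun k => ⟨inv (jR φ Z) ≫ k, IsIso.hom_inv_id_assoc _ _⟩⟩
    (Equiv.bijective _))

end Dual

end Groth.L29.TrivBC
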