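import Groth.Agent.L10.DTen.BaseAdj
import Groth.Agent.L10.DTen.Gen
import Groth.Agent.L10.DTen.Small
import Groth.Agent.L10.RelPC.TorBC
import Groth.Prelude.Def_TrivBC

/-!
Universal arrows into restrictions of scalars; the comparison map of base change for trivial duality.
-/

set_option autoImplicit false
set_option backward.defeqAttrib.useBackward true
set_option backward.isDefEq.respectTransparency false
set_option backward.isDefEq.respectTransparency.types false

universe u

open CategoryTheory CategoryTheory.Limits CategoryTheory.Pretriangulated Opposite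

attribute [local instance] HasDerivedCategory.standard

namespace Groth.L29.TrivBC

open Groth.L10.DTen

variable {R R' : Type u} [CommRing R] [CommRing R'] (ρ : R →+* R')

/-- an arrow into a restriction through which every other one factors uniquely -/
def Univ {X : Dual.D R} {T : Dual.D R'} (u : X ⟶ (DRing.restrictD ρ).obj T) : Prop :=
  ∀ W : Dual.D R', Function.Bijective fun g : T ⟶ W => u ≫ (DRing.restrictD ρ).map g

theorem univ_iff {L : Dual.D R ⥤ Dual.D R'} (adj : L ⊣ DRing.restrictD ρ) {X : Dual.D R} {T : Dual.D R'}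
    (u : X ⟶ (DRing.restrictD ρ).obj T) : Univ ρ u ↔ IsIso ((adj.homEquiv X T).symm u) := by
  have key : ∀ (W : Dual.D R') (g : T ⟶ W),
      u ≫ (DRing.restrictD ρ).map g = adj.homEquiv X W ((adj.homEquiv X T).symm u ≫ g) := fun W g => by
    rw [adj.homEquiv_naturality_right, Equiv.apply_symm_apply]
  constructor
  · intro h
    rw [isIso_iff_coyoneda_map_bijective]
    intro W
    have h' := h W
    rw [show (fun g : T ⟶ W => u ≫ (DRing.restrictD ρ).map g) =
      (adj.homEquiv X W) ∘ (fun g => (adj.homEquiv X T).symm u ≫ g) from funext fun g => key W g] at h'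
    exact (Function.Bijective.of_comp_iff' (adj.homEquiv X W).bijective _).1 h'
  · intro h W
    rw [show (fun g : T ⟶ W => u ≫ (DRing.restrictD ρ).map g) =
      (adj.homEquiv X W) ∘ (fun g => (adj.homEquiv X T).symm u ≫ g) from funext fun g => key W g]
    exact (adj.homEquiv X W).bijective.comp ((isIso_iff_coyoneda_map_bijective _).1 h W)

theorem univ_precomp_iff {X X' : Dual.D R} {T : Dual.D R'} (e : X' ⟶ X) [IsIso e]
    (u : X ⟶ (DRing.restrictD ρ).obj T) : Univ ρ (e ≫ u) ↔ Univ ρ u := by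
  refine forall_congr' fun W => ?_
  rw [show (fun g : T ⟶ W => (e ≫ u) ≫ (DRing.restrictD ρ).map g) =
    (fun v => e ≫ v) ∘ (fun g => u ≫ (DRing.restrictD ρ).map g) from funext fun g => Category.assoc _ _ _]
  exact Function.Bijective.of_comp_iff'
    ⟨fun a b h => (cancel_epi e).1 h, fun v => ⟨inv e ≫ v, IsIso.hom_inv_id_assoc e v⟩⟩ _

theorem univ_postcomp_iff {X : Dual.D R} {T T' : Dual.D R'} (θ : T ⟶ T') [IsIso θ]
    (u : X ⟶ (DRing.restrictD ρ).obj T) : Univ ρ (u ≫ (DRing.restrictD ρ).map θ) ↔ Univ ρ u := by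
  rw [univ_iff ρ (BaseAdj.adjB ρ), univ_iff ρ (BaseAdj.adjB ρ), Adjunction.homEquiv_naturality_right_symm]
  exact isIso_comp_right_iff _ θ

/-- a universal arrow on complexes -/
theorem univ_Q {X F : DRing.Cx R} (Y : DRing.Cx R') (p : F ⟶ X) [QuasiIso p] (hF : DRing.IsKFlat R F)
    (f : X ⟶ (_root_.DTen.resCx ρ).obj Y)
    (hf : QuasiIso ((_root_.DTen.extCx ρ).map (p ≫ f) ≫ (counitCx ρ).app Y)) :
    Univ ρ (DerivedCategory.Q.map f ≫ (_root_.DTen.resFactors ρ).inv.app Y) := by
  haveI : IsIso (DerivedCategory.Q.map p) := Groth.L10.KFlat.isIso_Q_map _ inferInstance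
  rw [← univ_precomp_iff ρ (DerivedCategory.Q.map p), ← Category.assoc, ← Functor.map_comp]
  let t : (_root_.DTen.extCx ρ).obj F ⟶ Y := (_root_.DTen.extCx ρ).map (p ≫ f) ≫ (counitCx ρ).app Y
  haveI : IsIso (DerivedCategory.Q.map t) := Groth.L10.KFlat.isIso_Q_map _ hf
  haveI := isIso_αB ρ hF
  have h1 : p ≫ f = (_root_.DTen.unitCx ρ).app F ≫ (_root_.DTen.resCx ρ).map t := by
    have hn := (_root_.DTen.unitCx ρ).naturality (p ≫ f)
    dsimp at hn
    simp only [t]
    rw [Functor.map_comp, ← Category.assoc]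
    erw [← hn]
    rw [Category.assoc]
    erw [triangle₂, Category.comp_id]
  have h2 : DerivedCategory.Q.map (p ≫ f) ≫ (_root_.DTen.resFactors ρ).inv.app Y =
      (BaseAdj.adjB ρ).homEquiv _ _ ((αB ρ).app F ≫ DerivedCategory.Q.map t) := by
    rw [Adjunction.homEquiv_unit, (DRing.restrictD ρ).map_comp]
    change _ = (BaseAdj.ηB ρ).app (DerivedCategory.Q.obj F) ≫ _
    rw [BaseAdj.ηB_app, ← Category.assoc, BaseAdj.η₀_fac]
    have hn := (_root_.DTen.resFactors ρ).inv.naturality t
    dsimp [BaseAdj.γ] at hn ⊢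
    rw [Category.assoc, ← hn, ← Functor.map_comp_assoc, ← h1]
  rw [h2, univ_iff ρ (BaseAdj.adjB ρ), Equiv.symm_apply_apply]
  infer_instance

end Groth.L29.TrivBC
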